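import Cfsg.Agent.BNHecke.Weyl

/-!
Double coset sums in the real group algebra of a group with a (B,N)-pair.
-/

set_option autoImplicit false

namespace Cfsg.Agent.BNHecke

open Cfsg Cfsg.Agent.BN MonoidAlgebra
open scoped Pointwise

variable {G : Type*} [Group G] [Finite G]

/-- The sum of the elements of a set. -/
noncomputable def ind (X : Set G) : MonoidAlgebra ℝ G :=
  ∑ g ∈ (Set.toFinite X).toFinset, MonoidAlgebra.of ℝ G g

theorem coeff_ind (X : Set G) [DecidablePred (· ∈ X)] (g : G) :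
    (ind X).coeff g = if g ∈ X then 1 else 0 := by
  classical
  simp [ind, MonoidAlgebra.coeff_sum, MonoidAlgebra.of_apply, MonoidAlgebra.coeff_single, Finsupp.single_apply]

theorem ind_mul_ind (K : Subgroup G) (X Y : Set G) (hX : ∀ x ∈ X, ∀ b ∈ K, x * b ∈ X)
    (hY : ∀ y ∈ Y, ∀ b ∈ K, b * y ∈ Y)
    (hinj : ∀ x ∈ X, ∀ x' ∈ X, ∀ y ∈ Y, ∀ y' ∈ Y, x * y = x' * y' → x⁻¹ * x' ∈ K) :
    ind X * ind Y = (Nat.card K : ℝ) • ind (X * Y) := by
  classical
  set sX := (Set.toFinite X).toFinset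
  set sY := (Set.toFinite Y).toFinset
  simp only [ind, Finset.sum_mul_sum, ← map_mul, Finset.smul_sum]
  rw [← Finset.sum_product', ← Finset.sum_fiberwise_of_maps_to
    (g := fun p : G × G => p.1 * p.2) (t := (Set.toFinite (X * Y)).toFinset)]
  · refine Finset.sum_congr rfl fun z hz => ?_
    rw [Set.Finite.mem_toFinset] at hz
    obtain ⟨x0, hx0, y0, hy0, rfl⟩ := hz
    rw [Finset.sum_congr rfl (g := fun _ => MonoidAlgebra.of ℝ G (x0 * y0)) fun p hp => by
      rw [(Finset.mem_filter.1 hp).2], Finset.sum_const, ← Nat.cast_smul_eq_nsmul ℝ]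
    congr 2
    have := Fintype.ofFinite K
    rw [Nat.card_eq_fintype_card, ← Finset.card_univ]
    refine (Finset.card_bij (fun (b : K) _ => (x0 * (b : G), (b : G)⁻¹ * y0)) ?_ ?_ ?_).symm
    · intro b _
      simp only [Finset.mem_filter, Finset.mem_product, Set.Finite.mem_toFinset, sX, sY]
      exact ⟨⟨hX _ hx0 _ b.2, hY _ hy0 _ (inv_mem b.2)⟩, by group⟩
    · intro b _ b' _ he
      exact Subtype.ext (mul_left_cancel (Prod.mk.injEq .. ▸ he).1)
    · rintro ⟨x, y⟩ hp
      simp only [Finset.mem_filter, Finset.mem_product, Set.Finite.mem_toFinset, sX, sY] at hp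
      refine ⟨⟨x0⁻¹ * x, hinj _ hx0 _ hp.1.1 _ hy0 _ hp.1.2 hp.2.symm⟩, Finset.mem_univ _, ?_⟩
      refine Prod.ext (mul_inv_cancel_left _ _) ?_
      show (x0⁻¹ * x)⁻¹ * y0 = y
      rw [mul_inv_rev, inv_inv, mul_assoc, ← hp.2, inv_mul_cancel_left]
  · intro p hp
    simp only [Finset.mem_product, Set.Finite.mem_toFinset, sX, sY] at hp ⊢
    exact Set.mul_mem_mul hp.1 hp.2

theorem coeff_one_mul_comm (x y : MonoidAlgebra ℝ G) : (x * y).coeff 1 = (y * x).coeff 1 := by
  classical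
  have := Fintype.ofFinite G
  have h : ∀ x y : MonoidAlgebra ℝ G, (x * y).coeff 1 = ∑ g : G, x.coeff g * y.coeff g⁻¹ := fun x y => by
    rw [coeff_mul_antidiag x y 1 (Finset.univ.image fun g : G => (g, g⁻¹))]
    · rw [Finset.sum_image fun a _ b _ e => (Prod.mk.injEq .. ▸ e).1]
    · intro p
      constructor
      · intro hp
        obtain ⟨g, -, rfl⟩ := Finset.mem_image.1 hp
        exact mul_inv_cancel g
      · intro hp
        exact Finset.mem_image.2 ⟨p.1, Finset.mem_univ _, Prod.ext rfl (inv_eq_of_mul_eq_one_right hp)⟩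
  rw [h, h, ← Equiv.sum_comp (Equiv.inv G)]
  exact Finset.sum_congr rfl fun g _ => by simp [mul_comm]

/-- The trace of an idempotent of the group algebra in the regular representation is a natural number. -/
theorem exists_rank {p : MonoidAlgebra ℝ G} (hp : p * p = p) :
    ∃ k : ℕ, (k : ℝ) = Nat.card G * p.coeff 1 := by
  classical
  have := Fintype.ofFinite G
  let F : G →* Matrix G G ℝ :=
    { toFun := fun g => Matrix.of fun a b => if a = g * b then 1 else 0
      map_one' := by ext a b; simp [Matrix.one_apply]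
      map_mul' := fun g g' => by
        ext a b
        simp [Matrix.mul_apply, mul_assoc] }
  let Φ := MonoidAlgebra.lift ℝ (Matrix G G ℝ) G F
  have htr : ∀ x : MonoidAlgebra ℝ G, (Φ x).trace = Nat.card G * x.coeff 1 := by
    intro x
    induction x using MonoidAlgebra.induction_linear with
    | zero => simp
    | add x y hx hy => rw [map_add, Matrix.trace_add, hx, hy, MonoidAlgebra.coeff_add, Finsupp.add_apply, mul_add]
    | single g c =>
      rw [MonoidAlgebra.lift_single, Matrix.trace_smul, MonoidAlgebra.coeff_single, Finsupp.single_apply,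
        Nat.card_eq_fintype_card]
      by_cases hg : g = 1
      · simp [hg, F, Matrix.trace, mul_comm]
      · have : (F g).trace = 0 := Finset.sum_eq_zero fun a _ => by
          simp [F, Ne.symm (mt (fun e : g * a = a => mul_eq_right.mp e) hg)]
        simp [this, hg]
  have hidem : Φ p * Φ p = Φ p := by rw [← map_mul, hp]
  have hproj : LinearMap.IsProj (LinearMap.range (Matrix.toLin' (Φ p))) (Matrix.toLin' (Φ p)) := by
    refine ⟨fun x => LinearMap.mem_range_self _ x, ?_⟩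
    rintro _ ⟨x, rfl⟩
    rw [← LinearMap.comp_apply, ← Matrix.toLin'_mul, hidem]
  refine ⟨Module.finrank ℝ (LinearMap.range (Matrix.toLin' (Φ p))), ?_⟩
  rw [← htr, ← hproj.trace, Matrix.trace_toLin'_eq]

section Pair

variable {P : Cfsg.BNPair G}

variable (P) in
/-- The normalised double coset sum. -/
noncomputable def T (n : G) : MonoidAlgebra ℝ G := (Nat.card P.B : ℝ)⁻¹ • ind (dc P n)

variable (P) in
/-- The union of `B` and `B s B` as a subgroup. -/
def par (s : G) (_hs : s ∈ P.S) : Subgroup G where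
  carrier := dc P 1 ∪ dc P s
  one_mem' := .inl (self_mem_dc 1)
  mul_mem' := by
    rintro x y hx hy
    rcases hx with hx | hx
    · have hxB : x ∈ P.B := mem_of_mem_dc_of_mem le_rfl hx (one_mem _)
      exact hy.imp (fun h => mul_mem_dc h hxB) (fun h => mul_mem_dc h hxB)
    · obtain ⟨a, ha, c, hc, rfl⟩ := mem_dc.1 hx
      rcases hy with hy | hy
      · exact .inr (dc_mul_mem hx (mem_of_mem_dc_of_mem le_rfl hy (one_mem _)))
      · have e : a * s * c * y = a * (s * (c * y)) := by group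
        rw [e]
        rcases mul_step _hs (P.subset _hs) (mul_mem_dc hy hc) with h | h
        · refine .inl (mul_mem_dc ?_ ha)
          have hB := mem_of_mem_dc_of_mem le_rfl h (P.sq_mem s _hs)
          exact mem_dc.2 ⟨_, hB, 1, one_mem _, by rw [mul_one, mul_one]⟩
        · exact .inr (mul_mem_dc h ha)
  inv_mem' := by
    rintro x (hx | hx)
    · refine .inl ?_
      have := inv_mem_dc hx
      rwa [inv_one] at this
    · refine .inr ?_
      have := inv_mem_dc hx
      rwa [dc_eq_of_eqv (a := s) (b := s⁻¹) (by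
        have := inv_mem (P.sq_mem s _hs)
        rwa [mul_inv_rev] at this)] at this

theorem coe_par {s : G} (hs : s ∈ P.S) : (par P s hs : Set G) = dc P 1 ∪ dc P s := rfl

theorem card_B_ne : (Nat.card P.B : ℝ) ≠ 0 := Nat.cast_ne_zero.2 Nat.card_pos.ne'

variable (P) in
/-- The parameter attached to a distinguished generator. -/
noncomputable def q (s : G) (hs : s ∈ P.S) : ℝ := (Nat.card (par P s hs) : ℝ) / Nat.card P.B - 1

theorem B_le_par {s : G} (hs : s ∈ P.S) : P.B ≤ par P s hs := fun b hb =>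
  show b ∈ dc P 1 ∪ dc P s from .inl (mem_dc.2 ⟨b, hb, 1, one_mem _, by rw [mul_one, mul_one]⟩)

theorem exists_q_eq {s : G} (hs : s ∈ P.S) : ∃ k : ℕ, 2 ≤ k ∧ q P s hs = k := by
  have hle := B_le_par hs
  set K := par P s hs with hK
  have hcard : (P.B.subgroupOf K).index * Nat.card P.B = Nat.card K := by
    rw [← Nat.card_congr (Subgroup.subgroupOfEquivOfLe hle).toEquiv, mul_comm]
    exact (P.B.subgroupOf K).card_mul_index
  have hsK : s ∈ K := show s ∈ dc P 1 ∪ dc P s from .inr (self_mem_dc s)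
  have h1 : (P.B.subgroupOf K).index ≠ 1 := fun h => not_mem_B hs
    (Subgroup.mem_subgroupOf.1 ((Subgroup.index_eq_one.1 h).ge (Subgroup.mem_top ⟨s, hsK⟩)))
  have h2 : (P.B.subgroupOf K).index ≠ 2 := fun h => by
    have hn := Subgroup.normal_of_index_eq_two h
    obtain ⟨b, hb, hbs⟩ := exists_conj_not_mem hs
    have h3 : s * b * s⁻¹ ∈ P.B := Subgroup.mem_subgroupOf.1
      (hn.conj_mem (⟨b, hle hb⟩ : K) (Subgroup.mem_subgroupOf.2 hb) ⟨s, hsK⟩)
    exact hbs (by simpa [mul_assoc] using mul_mem h3 (P.sq_mem s hs))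
  have h0 : (P.B.subgroupOf K).index ≠ 0 := Subgroup.index_ne_zero_of_finite
  refine ⟨(P.B.subgroupOf K).index - 1, by omega, ?_⟩
  rw [q, ← hK, ← hcard, Nat.cast_mul, mul_div_cancel_right₀ _ card_B_ne, Nat.cast_sub (by omega)]
  simp

theorem T_congr {a b : G} (h : a⁻¹ * b ∈ P.B) : T P b = T P a := by rw [T, T, dc_eq_of_eqv h]

theorem wlen_inv {n : G} (hn : n ∈ P.N) : wlen P n⁻¹ = wlen P n := by
  have key : ∀ {m : G}, m ∈ P.N → wlen P m⁻¹ ≤ wlen P m := by
    intro m hm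
    obtain ⟨w, hw, hl, hp⟩ := exists_min hm
    have hrev : ∀ w : List G, (∀ x ∈ w, x ∈ P.S) → w.reverse.prod⁻¹ * w.prod⁻¹ ∈ P.B := by
      intro w
      induction w with
      | nil => intro _; simp
      | cons s w ih =>
        intro hw
        have hs := hw s (List.mem_cons_self ..)
        have hw' : ∀ x ∈ w, x ∈ P.S := fun x hx => hw x (List.mem_cons_of_mem _ hx)
        have hrN : w.reverse.prod ∈ P.N := prod_mem_N fun x hx => hw' x (List.mem_reverse.1 hx)
        rw [List.reverse_cons, List.prod_append, List.prod_cons, List.prod_cons, List.prod_nil, mul_one,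
          mul_inv_rev s w.prod]
        refine eqv_trans (b := w.reverse.prod * s⁻¹) ?_
          (eqv_mul_right hrN (inv_mem (prod_mem_N hw')) (inv_mem (P.subset hs)) (ih hw'))
        have h2 : s⁻¹ * s⁻¹ ∈ P.B := by
          rw [← mul_inv_rev]; exact inv_mem (P.sq_mem s hs)
        simpa [mul_assoc] using h2
    have hwN := prod_mem_N hw
    have hcongr : (w.prod⁻¹)⁻¹ * m⁻¹ ∈ P.B := by
      have := P.conj_mem m hm (w.prod⁻¹ * m) (Subgroup.mem_inf.2 ⟨hp, mul_mem (inv_mem hwN) hm⟩)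
      rw [show m * (w.prod⁻¹ * m) * m⁻¹ = m * w.prod⁻¹ by group] at this
      have := inv_mem this
      rwa [mul_inv_rev] at this
    rw [← hl]
    exact (wlen_le w.reverse (fun x hx => hw x (List.mem_reverse.1 hx))
      (eqv_trans (hrev w hw) hcongr)).trans (le_of_eq (List.length_reverse ..))
  exact le_antisymm (key hn) (by simpa using key (inv_mem hn))

theorem mul_dc_gen {s n : G} (hs : s ∈ P.S) (hn : n ∈ P.N) (hle : wlen P n ≤ wlen P (s * n)) :
    dc P s * dc P n = dc P (s * n) := by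
  apply Set.Subset.antisymm
  · rintro _ ⟨x, hx, y, hy, rfl⟩
    obtain ⟨a, ha, b, hb, rfl⟩ := mem_dc.1 hx
    obtain ⟨c, hc, d, hd, rfl⟩ := mem_dc.1 hy
    have := dc_mul_mem (mul_mem_dc (mul_mem_dc_of_le hs hn hle (mul_mem hb hc)) ha) hd
    simpa [mul_assoc] using this
  · intro z hz
    obtain ⟨a, ha, b, hb, rfl⟩ := mem_dc.1 hz
    exact ⟨a * s, mem_dc.2 ⟨a, ha, 1, one_mem _, by group⟩, n * b, mem_dc.2 ⟨1, one_mem _, b, hb, by group⟩,
      by show a * s * (n * b) = a * (s * n) * b; group⟩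

theorem inj_gen {s n : G} (hs : s ∈ P.S) (hn : n ∈ P.N) (hle : wlen P n ≤ wlen P (s * n)) :
    ∀ x ∈ dc P s, ∀ x' ∈ dc P s, ∀ y ∈ dc P n, ∀ y' ∈ dc P n, x * y = x' * y' → x⁻¹ * x' ∈ P.B := by
  intro x hx x' hx' y hy y' hy' he
  have hp : x⁻¹ * x' ∈ par P s hs := mul_mem (inv_mem (show x ∈ par P s hs from .inr hx)) (show x' ∈ par P s hs from .inr hx')
  rcases (hp : x⁻¹ * x' ∈ dc P 1 ∪ dc P s) with h | h
  · exact mem_of_mem_dc_of_mem le_rfl h (one_mem _)
  · exfalso
    have h1 : y ∈ dc P s * dc P n := ⟨_, h, y', hy', by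
      show x⁻¹ * x' * y' = y
      rw [mul_assoc, ← he, inv_mul_cancel_left]⟩
    rw [mul_dc_gen hs hn hle] at h1
    exact not_eqv_mul_self hs hn (eqv_of_mem_dc hn (mul_mem (P.subset hs) hn)
      (by rw [← dc_eq_of_mem hy, dc_eq_of_mem h1]; exact self_mem_dc _))

theorem smul_mul_smul_card (X Y Z : Set G) (h : ind X * ind Y = (Nat.card P.B : ℝ) • ind Z) :
    ((Nat.card P.B : ℝ)⁻¹ • ind X) * ((Nat.card P.B : ℝ)⁻¹ • ind Y) = (Nat.card P.B : ℝ)⁻¹ • ind Z := by
  rw [smul_mul_smul_comm, h, smul_smul, mul_assoc, inv_mul_cancel₀ card_B_ne, mul_one]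

theorem T_gen_mul {s n : G} (hs : s ∈ P.S) (hn : n ∈ P.N) (hle : wlen P n ≤ wlen P (s * n)) :
    T P s * T P n = T P (s * n) := by
  refine smul_mul_smul_card _ _ _ ?_
  rw [ind_mul_ind P.B _ _ (fun x hx b hb => dc_mul_mem hx hb) (fun y hy b hb => mul_mem_dc hy hb)
    (inj_gen hs hn hle), mul_dc_gen hs hn hle]

theorem dc_gen_inv {s : G} (hs : s ∈ P.S) : dc P s⁻¹ = dc P s :=
  dc_eq_of_eqv (by simpa using inv_mem (P.sq_mem s hs))

theorem T_mul_gen {s n : G} (hs : s ∈ P.S) (hn : n ∈ P.N) (hle : wlen P n ≤ wlen P (n * s)) :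
    T P n * T P s = T P (n * s) := by
  have hns : (s * n⁻¹)⁻¹ * (n * s)⁻¹ ∈ P.B := by
    rw [mul_inv_rev]
    simpa using eqv_inv_mul hs (inv_mem hn)
  have hle' : wlen P n⁻¹ ≤ wlen P (s * n⁻¹) := by
    rw [wlen_congr hns, wlen_inv hn, wlen_inv (mul_mem hn (P.subset hs))]
    exact hle
  have hinvdc : ∀ {x m : G}, x ∈ dc P m → x⁻¹ ∈ dc P m⁻¹ := fun h => inv_mem_dc h
  have hset : dc P n * dc P s = dc P (n * s) := by
    have h : (dc P s * dc P n⁻¹) = dc P ((n * s)⁻¹) := by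
      rw [mul_dc_gen hs (inv_mem hn) hle', dc_eq_of_eqv hns]
    ext z
    constructor
    · rintro ⟨x, hx, y, hy, rfl⟩
      have h1 : (x * y)⁻¹ ∈ dc P ((n * s)⁻¹) := by
        rw [← h, mul_inv_rev]
        exact Set.mul_mem_mul (dc_gen_inv hs ▸ hinvdc hy) (hinvdc hx)
      simpa using hinvdc h1
    · intro hz
      have h1 : z⁻¹ ∈ dc P s * dc P n⁻¹ := h ▸ hinvdc hz
      obtain ⟨x, hx, y, hy, e⟩ := h1
      refine ⟨y⁻¹, by simpa using hinvdc hy, x⁻¹, dc_gen_inv hs ▸ hinvdc hx, ?_⟩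
      show y⁻¹ * x⁻¹ = z
      show y⁻¹ * x⁻¹ = z
      rw [← mul_inv_rev, show x * y = z⁻¹ from e, inv_inv]
  refine smul_mul_smul_card _ _ _ ?_
  rw [ind_mul_ind P.B _ _ (fun x hx b hb => dc_mul_mem hx hb) (fun y hy b hb => mul_mem_dc hy hb) ?_, hset]
  intro x hx x' hx' y hy y' hy' he
  have h1 := inj_gen hs (inv_mem hn) hle' _ (dc_gen_inv hs ▸ hinvdc hy) _ (dc_gen_inv hs ▸ hinvdc hy')
    _ (hinvdc hx) _ (hinvdc hx') (by rw [← mul_inv_rev, ← mul_inv_rev, he])
  rw [inv_inv] at h1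
  rwa [show x⁻¹ * x' = y * y'⁻¹ by rw [inv_mul_eq_iff_eq_mul, ← mul_assoc, he, mul_inv_cancel_right]]

theorem dc_one : dc P 1 = (P.B : Set G) := by
  ext x
  exact ⟨fun h => mem_of_mem_dc_of_mem le_rfl h (one_mem _),
    fun h => mem_dc.2 ⟨x, h, 1, one_mem _, by rw [mul_one, mul_one]⟩⟩

theorem one_mul_T (n : G) : T P 1 * T P n = T P n := by
  refine smul_mul_smul_card _ _ _ ?_
  rw [dc_one, ind_mul_ind P.B _ _ (fun x hx b hb => mul_mem hx hb) (fun y hy b hb => mul_mem_dc hy hb)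
    (fun x hx x' hx' _ _ _ _ _ => mul_mem (inv_mem hx) hx')]
  congr 2
  ext z
  exact ⟨by rintro ⟨x, hx, y, hy, rfl⟩; exact mul_mem_dc hy hx, fun hz => ⟨1, one_mem P.B, z, hz, one_mul z⟩⟩

theorem T_mul_one (n : G) : T P n * T P 1 = T P n := by
  refine smul_mul_smul_card _ _ _ ?_
  rw [dc_one, ind_mul_ind P.B _ _ (fun x hx b hb => dc_mul_mem hx hb) (fun y hy b hb => mul_mem hb hy) ?_]
  · congr 2
    ext z
    exact ⟨by rintro ⟨x, hx, y, hy, rfl⟩; exact dc_mul_mem hx hy, fun hz => ⟨z, hz, 1, one_mem P.B, mul_one z⟩⟩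
  · intro x _ x' _ y hy y' hy' he
    rw [show x⁻¹ * x' = y * y'⁻¹ by rw [inv_mul_eq_iff_eq_mul, ← mul_assoc, he, mul_inv_cancel_right]]
    exact mul_mem hy (inv_mem hy')

theorem ind_union_gen {s : G} (hs : s ∈ P.S) :
    T P 1 + T P s = (Nat.card P.B : ℝ)⁻¹ • ind (par P s hs : Set G) := by
  classical
  rw [T, T, ← smul_add, coe_par]
  congr 1
  apply MonoidAlgebra.coeff_injective
  ext g
  rw [MonoidAlgebra.coeff_add, Finsupp.add_apply, coeff_ind, coeff_ind, coeff_ind]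
  by_cases h1 : g ∈ dc P 1
  · have h2 : g ∉ dc P s := fun h2 => not_mem_B hs
      (mem_of_mem_dc_of_mem' le_rfl h2 (mem_of_mem_dc_of_mem le_rfl h1 (one_mem _)))
    simp [h1, h2]
  · simp [h1, Set.mem_union]

theorem sq_par {s : G} (hs : s ∈ P.S) :
    (T P 1 + T P s) * (T P 1 + T P s) = (q P s hs + 1) • (T P 1 + T P s) := by
  rw [ind_union_gen hs, smul_mul_smul_comm, ind_mul_ind (par P s hs) _ _ (fun x hx b hb => mul_mem hx hb)
    (fun y hy b hb => mul_mem hb hy) (fun x hx x' hx' _ _ _ _ _ => mul_mem (inv_mem hx) hx'), smul_smul, smul_smul]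
  have : ((par P s hs : Set G) * (par P s hs : Set G)) = (par P s hs : Set G) := by
    ext z
    exact ⟨by rintro ⟨x, hx, y, hy, rfl⟩; exact mul_mem hx hy, fun hz => ⟨z, hz, 1, one_mem _, mul_one z⟩⟩
  rw [this, q]
  congr 1
  field_simp
  ring

theorem gen_mul_sum {s : G} (hs : s ∈ P.S) : T P s * (T P 1 + T P s) = q P s hs • (T P 1 + T P s) := by
  have h := sq_par hs
  rw [add_mul, mul_add, one_mul_T, one_mul_T, add_smul, one_smul, add_comm, add_right_cancel_iff] at h
  exact h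

theorem coeff_T_one (n : G) [Decidable (n ∈ P.B)] :
    (T P n).coeff 1 = if n ∈ P.B then (Nat.card P.B : ℝ)⁻¹ else 0 := by
  classical
  rw [T, MonoidAlgebra.coeff_smul_apply, coeff_ind]
  have : (1 : G) ∈ dc P n ↔ n ∈ P.B :=
    ⟨fun h => mem_of_mem_dc_of_mem' le_rfl h (one_mem _), fun h => mem_dc.2 ⟨n⁻¹, inv_mem h, 1, one_mem _, by group⟩⟩
  by_cases hn : n ∈ P.B <;> simp [hn, this]

/-- The augmentation. -/
noncomputable def aug : MonoidAlgebra ℝ G →ₐ[ℝ] ℝ := MonoidAlgebra.lift ℝ ℝ G 1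

theorem aug_ind (X : Set G) : aug (ind X) = Nat.card X := by
  classical
  simp [aug, ind, Nat.card_eq_card_finite_toFinset (Set.toFinite X)]

theorem aug_T_pos (n : G) : 0 < aug (T P n) := by
  rw [T, map_smul, aug_ind, smul_eq_mul]
  refine mul_pos (inv_pos.2 (Nat.cast_pos.2 Nat.card_pos)) (Nat.cast_pos.2 ?_)
  have : Nonempty (dc P n) := ⟨⟨n, self_mem_dc n⟩⟩
  exact Nat.card_pos

theorem aug_T_one : aug (T P 1) = 1 := by
  rw [T, map_smul, aug_ind, smul_eq_mul, dc_one]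
  exact inv_mul_cancel₀ card_B_ne

theorem aug_T_gen {s : G} (hs : s ∈ P.S) : aug (T P s) = q P s hs := by
  have h := congrArg aug (gen_mul_sum hs)
  rw [map_mul, map_smul, smul_eq_mul] at h
  refine mul_right_cancel₀ ?_ h
  rw [map_add, aug_T_one]
  linarith [aug_T_pos (P := P) s]

end Pair

end Cfsg.Agent.BNHecke
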