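import Mathlib

/-!
Eigen-idempotents along a chain of length `m` in an algebra generated by two projections, and the
three term recurrences that give their weights.
-/

set_option autoImplicit false

namespace Cfsg.Agent.BNHecke

open Finset

/-- The relations of a chain of length `m`. -/
structure Chain (R : Type*) [Ring R] [Algebra ℝ R] where
  a : R
  b : R
  u : ℕ → R
  v : ℕ → R
  m : ℕ
  q : ℝ
  r : ℝ
  e₁ : ℝ
  e₂ : ℝ
  e₃ : ℝ
  two_le : 2 ≤ m
  u_zero : u 0 = a
  u_mul_a : ∀ j, j ≤ m → u j * a = (q + 1) • u j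
  a_mul_b : a * b = v 0
  v_zero : v 0 * a = u 1 + (q + 1) • u 0
  u_mul_b : ∀ j, j + 1 < m → u (j + 1) * b = v (j + 1) + r • v j
  v_mul_a : ∀ j, j + 2 < m → v (j + 1) * a = u (j + 2) + q • u (j + 1)
  v_last : v (m - 1) * a = e₁ • u m + q • u (m - 1)
  u_top : u m * b = e₂ • v m + r • v (m - 1)
  v_top : v m * a = e₃ • u m

namespace Chain

variable {R : Type*} [Ring R] [Algebra ℝ R] (C : Chain R)

theorem sum_mul_b (α : ℕ → ℝ) : ∀ J, J < C.m →
    (∑ j ∈ range (J + 1), α j • C.u j) * C.b =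
      (∑ i ∈ range J, (α i + C.r * α (i + 1)) • C.v i) + α J • C.v J := by
  intro J
  induction J with
  | zero => intro _; simp [C.u_zero, C.a_mul_b]
  | succ J ih =>
    intro h
    rw [sum_range_succ _ (J + 1), add_mul, ih (by omega), smul_mul_assoc, C.u_mul_b J h, sum_range_succ _ J,
      smul_add, smul_smul, add_smul, mul_comm C.r]
    abel

theorem sum_mul_a (α β : ℕ → ℝ) (lam : ℝ) (h0 : (C.q + 1) * β 0 = lam * α 0)
    (hmid : ∀ i, i + 2 < C.m → β i + C.q * β (i + 1) = lam * α (i + 1)) : ∀ J, J + 1 < C.m →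
    (∑ i ∈ range (J + 1), β i • C.v i) * C.a =
      lam • (∑ j ∈ range (J + 1), α j • C.u j) + β J • C.u (J + 1) := by
  intro J
  induction J with
  | zero =>
    intro _
    simp only [Nat.zero_add, sum_range_one, smul_mul_assoc, C.v_zero, smul_add, smul_smul, ← h0]
    rw [mul_comm (C.q + 1)]
    abel
  | succ J ih =>
    intro h
    rw [sum_range_succ _ (J + 1), add_mul, ih (by omega), smul_mul_assoc, C.v_mul_a J h,
      sum_range_succ _ (J + 1), smul_add, smul_add, smul_smul, smul_smul, ← hmid J h, add_smul, mul_comm C.q]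
    abel

/-- An element that is an eigenvector for the right action absorbs the chain. -/
theorem absorb {E : R} {lam : ℝ} (hEa : E * C.a = (C.q + 1) • E) (hEba : E * C.b * C.a = lam • E)
    (G H : ℕ → ℝ) (hG0 : G 0 = 1) (hH0 : H 0 = 1) (hG1 : G 1 = lam - (C.q + 1))
    (hH : ∀ j, H (j + 1) = G (j + 1) - C.r * H j)
    (hG : ∀ j, G (j + 2) = lam * H (j + 1) - C.q * G (j + 1)) :
    ∀ j, j < C.m → E * C.u j = ((C.q + 1) * G j) • E ∧ E * C.v j = ((C.q + 1) * H j) • (E * C.b) := by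
  intro j
  induction j using Nat.strong_induction_on with
  | _ j ih =>
    intro hj
    have hv0 : E * C.v 0 = ((C.q + 1) * H 0) • (E * C.b) := by
      rw [← C.a_mul_b, ← mul_assoc, hEa, hH0, mul_one, smul_mul_assoc]
    rcases j with _ | _ | j
    · exact ⟨by rw [C.u_zero, hEa, hG0, mul_one], hv0⟩
    · have hu : E * C.u 1 = ((C.q + 1) * G 1) • E := by
        have h := congrArg (E * ·) C.v_zero
        simp only [← mul_assoc, hv0, mul_add, smul_mul_assoc, hEba, mul_smul_comm, C.u_zero, hEa, smul_smul] at h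
        rw [hG1, eq_sub_of_add_eq h.symm, hH0, ← sub_smul]
        congr 1
        ring
      refine ⟨hu, ?_⟩
      have h := congrArg (E * ·) (C.u_mul_b 0 (by omega))
      simp only [← mul_assoc, zero_add, hu, mul_add, smul_mul_assoc, mul_smul_comm, hv0, smul_smul] at h
      rw [hH 0, eq_sub_of_add_eq h.symm, ← sub_smul]
      congr 1
      ring
    · obtain ⟨hu', hv'⟩ := ih (j + 1) (by omega) (by omega)
      have hu : E * C.u (j + 2) = ((C.q + 1) * G (j + 2)) • E := by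
        have h := congrArg (E * ·) (C.v_mul_a j hj)
        simp only [← mul_assoc, hv', mul_add, smul_mul_assoc, hEba, mul_smul_comm, hu', smul_smul] at h
        rw [hG j, eq_sub_of_add_eq h.symm, ← sub_smul]
        congr 1
        ring
      refine ⟨hu, ?_⟩
      have h := congrArg (E * ·) (C.u_mul_b (j + 1) hj)
      simp only [← mul_assoc, hu, mul_add, smul_mul_assoc, mul_smul_comm, hv', smul_smul] at h
      rw [hH (j + 1), eq_sub_of_add_eq h.symm, ← sub_smul]
      congr 1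
      ring

/-- The idempotent up to a scalar. -/
theorem exists_eigen (τ : R →ₗ[ℝ] ℝ) (hτ0 : τ (C.u 0) = 1) (hτ : ∀ j, 1 ≤ j → j ≤ C.m → τ (C.u j) = 0)
    (α G H : ℕ → ℝ) (lam Gtop : ℝ) (hα0 : α 0 = 1)
    (h0 : (C.q + 1) * (α 0 + C.r * α 1) = lam * α 0)
    (hmid : ∀ i, (α i + C.r * α (i + 1)) + C.q * (α (i + 1) + C.r * α (i + 2)) = lam * α (i + 1))
    (htop : C.e₁ * (α (C.m - 1) + C.r * α C.m) + C.e₃ * C.e₂ * α C.m = lam * α C.m)
    (he₁ : C.e₁ ≠ 0) (hG0 : G 0 = 1) (hH0 : H 0 = 1) (hG1 : G 1 = lam - (C.q + 1))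
    (hH : ∀ j, H (j + 1) = G (j + 1) - C.r * H j)
    (hG : ∀ j, G (j + 2) = lam * H (j + 1) - C.q * G (j + 1))
    (hGtop : C.e₁ * Gtop = lam * H (C.m - 1) - C.q * G (C.m - 1)) :
    ∃ E : R, τ E = 1 ∧
      E * E = ((C.q + 1) * ((∑ j ∈ range C.m, α j * G j) + α C.m * Gtop)) • E := by
  obtain ⟨k, hk⟩ : ∃ k, C.m = k + 2 := ⟨C.m - 2, by have := C.two_le; omega⟩
  set E := ∑ j ∈ range (C.m + 1), α j • C.u j with hE
  have hEa : E * C.a = (C.q + 1) • E := by
    rw [hE, sum_mul, smul_sum]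
    refine sum_congr rfl fun j hj => ?_
    rw [smul_mul_assoc, C.u_mul_a j (by rw [mem_range] at hj; omega), smul_comm]
  have hm1 : C.m - 1 = k + 1 := by omega
  have hEb : E * C.b = (∑ i ∈ range (k + 1), (α i + C.r * α (i + 1)) • C.v i) +
      ((α (k + 1) + C.r * α (k + 2)) • C.v (k + 1) + (C.e₂ * α (k + 2)) • C.v (k + 2)) := by
    have h1 := C.u_top
    rw [hm1, hk] at h1
    rw [hE, hk, sum_range_succ, add_mul, C.sum_mul_b α (k + 1) (by omega), smul_mul_assoc, h1,
      smul_add, smul_smul, smul_smul, add_smul, mul_comm C.r (α (k + 2)), mul_comm C.e₂]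
    abel
  have hEba : E * C.b * C.a = lam • E := by
    have h1 := C.v_last
    have h2 := C.v_top
    have h3 := htop
    have h4 := hmid k
    rw [hm1, hk] at h1 h3
    rw [hk] at h2
    rw [hEb, add_mul, add_mul, C.sum_mul_a α (fun i => α i + C.r * α (i + 1)) lam h0 (fun i _ => hmid i) k
      (by omega), smul_mul_assoc, smul_mul_assoc, h1, h2, hE, hk, sum_range_succ _ (k + 2), sum_range_succ _ (k + 1)]
    match_scalars
    · ring
    · linear_combination h4
    · linear_combination h3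
  have habs := C.absorb hEa hEba G H hG0 hH0 hG1 hH hG
  have htopu : E * C.u C.m = ((C.q + 1) * Gtop) • E := by
    have h := congrArg (E * ·) C.v_last
    obtain ⟨hu', hv'⟩ := habs (C.m - 1) (by omega)
    simp only [← mul_assoc, hv', mul_add, smul_mul_assoc, hEba, mul_smul_comm, hu', smul_smul] at h
    refine smul_right_injective R he₁ ?_
    beta_reduce
    rw [smul_smul, show C.e₁ * ((C.q + 1) * Gtop) = (C.q + 1) * H (C.m - 1) * lam - C.q * ((C.q + 1) * G (C.m - 1))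
      by rw [mul_left_comm, hGtop]; ring, sub_smul]
    linear_combination (norm := (match_scalars <;> ring)) -h
  refine ⟨E, ?_, ?_⟩
  · rw [hE, map_sum, sum_eq_single 0 (fun j hj hj0 => ?_) (fun h => absurd (mem_range.2 (by omega)) h),
      map_smul, hτ0, hα0, smul_eq_mul, mul_one]
    rw [map_smul, hτ j (by omega) (by rw [mem_range] at hj; omega), smul_zero]
  · conv_lhs => arg 2; rw [hE]
    rw [mul_sum, sum_range_succ, mul_smul_comm, htopu,
      sum_congr rfl (g := fun j => (α j * ((C.q + 1) * G j)) • E) fun j hj => by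
        rw [mul_smul_comm, (habs j (mem_range.1 hj)).1, smul_smul],
      ← sum_smul, smul_smul, ← add_smul, mul_add, mul_sum]
    congr 1
    refine congrArg₂ (· + ·) (sum_congr rfl fun j _ => by ring) (by ring)

end Chain

section Weights

variable (q r ρ c : ℝ)

/-- The solution of the recurrence with the boundary values of a chain. -/
noncomputable def hseq : ℕ → ℝ
  | 0 => (q + 1) / q
  | 1 => (2 * ρ * c + r - 1) / ρ
  | j + 2 => 2 * c * hseq (j + 1) - hseq j

/-- The coefficients of the eigenvector. -/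
noncomputable def alph (j : ℕ) : ℝ := if j = 0 then 1 else q / (q + 1) * hseq q r ρ c j / ρ ^ j

/-- The eigenvalues at the vertices at even distance. -/
noncomputable def gev (j : ℕ) : ℝ := if j = 0 then 1 else hseq q r ρ c j * ρ ^ j

/-- The eigenvalues at the vertices at odd distance. -/
noncomputable def hev (j : ℕ) : ℝ :=
  (hseq q r ρ c (j + 1) * ρ ^ (j + 1) + q * hseq q r ρ c j * ρ ^ j) / (q + r + 2 * ρ * c)

variable {q r ρ c}

theorem hseq_rec (j : ℕ) : hseq q r ρ c (j + 2) = 2 * c * hseq q r ρ c (j + 1) - hseq q r ρ c j := rfl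

theorem alph_zero : alph q r ρ c 0 = 1 := if_pos rfl

theorem alph_succ (j : ℕ) :
    alph q r ρ c (j + 1) = q / (q + 1) * hseq q r ρ c (j + 1) / ρ ^ (j + 1) := if_neg (Nat.succ_ne_zero j)

theorem gev_succ (j : ℕ) : gev q r ρ c (j + 1) = hseq q r ρ c (j + 1) * ρ ^ (j + 1) := if_neg (Nat.succ_ne_zero j)

theorem alph_eq_zero_case (hq : 0 < q) (hρ : ρ ^ 2 = q * r) (hρ0 : ρ ≠ 0) :
    (q + 1) * (alph q r ρ c 0 + r * alph q r ρ c 1) = (q + r + 2 * ρ * c) * alph q r ρ c 0 := by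
  rw [alph_zero, alph_succ, hseq]
  field_simp
  linear_combination (-2 * ρ * c - r + 1) * hρ

theorem alph_mid (hq : 0 < q) (hρ : ρ ^ 2 = q * r) (hρ0 : ρ ≠ 0) (i : ℕ) :
    (alph q r ρ c i + r * alph q r ρ c (i + 1)) + q * (alph q r ρ c (i + 1) + r * alph q r ρ c (i + 2)) =
      (q + r + 2 * ρ * c) * alph q r ρ c (i + 1) := by
  rcases i with _ | i
  · rw [alph_zero, alph_succ, alph_succ, hseq_rec]
    simp only [hseq]
    field_simp
    linear_combination (q * ρ ^ 2 - 4 * q * ρ ^ 2 * c ^ 2 + ρ ^ 2 - 2 * ρ * c * q * r + 2 * ρ * c * q) * hρ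
  · rw [alph_succ, alph_succ, alph_succ, hseq_rec (i + 1)]
    field_simp
    ring_nf
    linear_combination (hseq q r ρ c (1 + i) * ρ ^ 3 * ρ ^ (i * 2) - 2 * hseq q r ρ c (2 + i) * ρ ^ 3 * ρ ^ (i * 2) * c) * hρ

theorem gev_one (hρ0 : ρ ≠ 0) : gev q r ρ c 1 = (q + r + 2 * ρ * c) - (q + 1) := by
  rw [gev_succ, hseq]
  field_simp
  ring

theorem hev_zero (hq : 0 < q) (hρ0 : ρ ≠ 0) (hl : q + r + 2 * ρ * c ≠ 0) : hev q r ρ c 0 = 1 := by
  rw [hev, zero_add, hseq, hseq, div_eq_one_iff_eq hl]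
  field_simp
  ring

theorem hev_succ (hρ : ρ ^ 2 = q * r) (hl : q + r + 2 * ρ * c ≠ 0) (j : ℕ) :
    hev q r ρ c (j + 1) = gev q r ρ c (j + 1) - r * hev q r ρ c j := by
  rw [hev, hev, gev_succ, hseq_rec, eq_sub_iff_add_eq, ← mul_div_assoc, ← add_div, div_eq_iff hl, pow_succ ρ (j + 1),
    pow_succ ρ j]
  linear_combination (-(hseq q r ρ c j * ρ ^ j)) * hρ

theorem gev_rec (hl : q + r + 2 * ρ * c ≠ 0) (j : ℕ) :
    gev q r ρ c (j + 2) = (q + r + 2 * ρ * c) * hev q r ρ c (j + 1) - q * gev q r ρ c (j + 1) := by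
  rw [hev, gev_succ, gev_succ, mul_div_cancel₀ _ hl]
  ring

theorem invariant (j : ℕ) :
    hseq q r ρ c j ^ 2 - 2 * c * hseq q r ρ c j * hseq q r ρ c (j + 1) + hseq q r ρ c (j + 1) ^ 2 =
      hseq q r ρ c 0 ^ 2 - 2 * c * hseq q r ρ c 0 * hseq q r ρ c 1 + hseq q r ρ c 1 ^ 2 := by
  induction j with
  | zero => rfl
  | succ j ih =>
    rw [← ih, hseq_rec]
    ring

theorem sum_sq (k : ℕ) :
    2 * (1 - c ^ 2) * ∑ j ∈ range (k + 1), hseq q r ρ c (j + 1) ^ 2 =
      k * (hseq q r ρ c 0 ^ 2 - 2 * c * hseq q r ρ c 0 * hseq q r ρ c 1 + hseq q r ρ c 1 ^ 2) +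
        hseq q r ρ c 1 ^ 2 + hseq q r ρ c (k + 1) ^ 2 -
        c * (hseq q r ρ c (k + 1) * hseq q r ρ c (k + 2) + hseq q r ρ c 0 * hseq q r ρ c 1) := by
  induction k with
  | zero =>
    rw [sum_range_one, hseq_rec 0]
    push_cast
    ring
  | succ k ih =>
    rw [sum_range_succ, mul_add, ih, hseq_rec (k + 1)]
    push_cast
    linear_combination invariant (q := q) (r := r) (ρ := ρ) (c := c) (k + 1)

theorem invariant_value (hq : 0 < q) (hρ : ρ ^ 2 = q * r) (hρ0 : ρ ≠ 0) :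
    (hseq q r ρ c 0 ^ 2 - 2 * c * hseq q r ρ c 0 * hseq q r ρ c 1 + hseq q r ρ c 1 ^ 2) * (q ^ 2 * r) =
      (q + r + 2 * ρ * c) * (q * r + 1 - 2 * ρ * c) := by
  simp only [hseq]
  field_simp
  linear_combination (4 * ρ ^ 2 * c ^ 2 + 2 * ρ * c * r - 2 * ρ * c * q * r + 2 * ρ * c * q - 2 * ρ * c - q * r ^ 2 + 2 * q * r - q) * hρ

theorem sum_alph_gev (hρ0 : ρ ≠ 0) (k : ℕ) :
    ∑ j ∈ range (k + 2), alph q r ρ c j * gev q r ρ c j =
      1 + q / (q + 1) * ∑ j ∈ range (k + 1), hseq q r ρ c (j + 1) ^ 2 := by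
  rw [sum_range_succ', mul_sum, alph_zero, gev, if_pos rfl, mul_one, add_comm]
  congr 1
  refine sum_congr rfl fun j _ => ?_
  rw [alph_succ, gev_succ]
  field_simp

end Weights

end Cfsg.Agent.BNHecke
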