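import Mathlib

/-!
A rationality condition on `2 √(qr) cos (π / m)`.
-/

set_option autoImplicit false

namespace Cfsg.Agent.BNHecke

open Real

/-- The second kind Chebyshev recurrence scaled by `ρ`. -/
noncomputable def dseq (Q x : ℝ) : ℕ → ℝ
  | 0 => 0
  | 1 => 1
  | k + 2 => x * dseq Q x (k + 1) - Q * dseq Q x k

theorem dseq_cos {Q ρ : ℝ} (hρ : ρ ^ 2 = Q) (t : ℝ) :
    ∀ k : ℕ, dseq Q (2 * ρ * cos t) k * sin t * ρ = ρ ^ k * sin (k * t) := by
  intro k
  induction k using Nat.twoStepInduction with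
  | zero => simp [dseq]
  | one => simp [dseq]; ring
  | more k ih1 ih2 =>
    have e : sin ((k + 2 : ℕ) * t) = 2 * cos t * sin ((k + 1 : ℕ) * t) - sin ((k : ℕ) * t) := by
      push_cast
      rw [show ((k : ℝ) + 2) * t = ((k : ℝ) + 1) * t + t by ring,
        show (k : ℝ) * t = ((k : ℝ) + 1) * t - t by ring, sin_add, sin_sub]
      ring
    rw [dseq, e]
    linear_combination 2 * ρ * cos t * ih2 - Q * ih1 + ρ ^ k * sin ((k : ℕ) * t) * hρ

theorem dseq_linear {Q : ℚ} {S T : ℚ} {y y' : ℝ} (hy : y ^ 2 = S * y - T) (hy' : y' ^ 2 = S * y' - T) :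
    ∀ k, ∃ a b : ℚ, dseq Q y k = a * y + b ∧ dseq Q y' k = a * y' + b := by
  intro k
  induction k using Nat.twoStepInduction with
  | zero => exact ⟨0, 0, by simp [dseq], by simp [dseq]⟩
  | one => exact ⟨0, 1, by simp [dseq], by simp [dseq]⟩
  | more k ih1 ih2 =>
    obtain ⟨a, b, h1, h1'⟩ := ih1
    obtain ⟨c, d, h2, h2'⟩ := ih2
    refine ⟨c * S + d - Q * a, -(c * T) - Q * b, ?_, ?_⟩
    · rw [dseq, h1, h2]
      push_cast
      linear_combination (c : ℝ) * hy
    · rw [dseq, h1', h2']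
      push_cast
      linear_combination (c : ℝ) * hy'

theorem dseq_grow {Q ρ x : ℝ} (hρ : ρ ^ 2 = Q) (hρ0 : 0 < ρ) (hx : 2 * ρ ≤ |x|) :
    ∀ k, ρ * |dseq Q x k| + ρ ^ k ≤ |dseq Q x (k + 1)| := by
  intro k
  induction k with
  | zero => simp [dseq]
  | succ k ih =>
    rw [show k + 1 + 1 = k + 2 from rfl, dseq]
    have h1 : |x| * |dseq Q x (k + 1)| - Q * |dseq Q x k| ≤ |x * dseq Q x (k + 1) - Q * dseq Q x k| := by
      have := abs_sub_abs_le_abs_sub (x * dseq Q x (k + 1)) (Q * dseq Q x k)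
      rw [abs_mul, abs_mul, abs_of_nonneg (show 0 ≤ Q by rw [← hρ]; positivity)] at this
      exact this
    have h2 : 2 * ρ * |dseq Q x (k + 1)| ≤ |x| * |dseq Q x (k + 1)| :=
      mul_le_mul_of_nonneg_right hx (abs_nonneg _)
    have h3 : ρ * (ρ * |dseq Q x k| + ρ ^ k) ≤ ρ * |dseq Q x (k + 1)| := mul_le_mul_of_nonneg_left ih hρ0.le
    have h4 : ρ * ρ * |dseq Q x k| = Q * |dseq Q x k| := by rw [← hρ, pow_two]
    rw [pow_succ']
    nlinarith

/-- The zeros lie between the extreme ones. -/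
theorem abs_le_of_dseq_eq_zero {Q ρ x : ℝ} (hρ : ρ ^ 2 = Q) (hρ0 : 0 < ρ) {m : ℕ} (hm : 2 ≤ m)
    (h : dseq Q x m = 0) : |x| ≤ 2 * ρ * cos (π / m) := by
  have hx : |x| < 2 * ρ := by
    by_contra hge
    push Not at hge
    have := dseq_grow hρ hρ0 hge (m - 1)
    rw [show m - 1 + 1 = m by omega, h, abs_zero] at this
    have : 0 < ρ ^ (m - 1) := pow_pos hρ0 _
    have : 0 ≤ ρ * |dseq Q x (m - 1)| := by positivity
    linarith
  rw [abs_lt] at hx
  have h1 : -1 ≤ x / (2 * ρ) := by rw [le_div_iff₀ (by linarith)]; linarith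
  have h2 : x / (2 * ρ) ≤ 1 := by rw [div_le_iff₀ (by linarith)]; linarith
  set t := arccos (x / (2 * ρ)) with ht
  have hxc : x = 2 * ρ * cos t := by
    rw [ht, cos_arccos h1 h2]
    field_simp
  have ht0 : 0 < t := arccos_pos.mpr (by rw [div_lt_one (by linarith)]; linarith)
  have htπ : t < π := arccos_lt_pi.mpr (by rw [lt_div_iff₀ (by linarith)]; linarith)
  have hsin : sin (m * t) = 0 := by
    have := dseq_cos hρ t m
    rw [← hxc, h, zero_mul, zero_mul] at this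
    rcases mul_eq_zero.mp this.symm with e | e
    · exact absurd e (pow_ne_zero _ hρ0.ne')
    · exact e
  obtain ⟨j, hj⟩ := sin_eq_zero_iff.mp hsin
  have hm0 : (0 : ℝ) < m := by exact_mod_cast (by omega : 0 < m)
  have hπ := pi_pos
  have hj1 : (1 : ℤ) ≤ j := by
    have : (0 : ℝ) < (j : ℝ) * π := by rw [hj]; positivity
    have : (0 : ℝ) < (j : ℝ) := pos_of_mul_pos_left this hπ.le
    exact_mod_cast this
  have hj2 : j + 1 ≤ (m : ℤ) := by
    have : (j : ℝ) * π < (m : ℝ) * π := by rw [hj]; exact mul_lt_mul_of_pos_left htπ hm0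
    have : (j : ℝ) < (m : ℝ) := lt_of_mul_lt_mul_right this hπ.le
    exact_mod_cast this
  have hlow : π / m ≤ t := by
    rw [div_le_iff₀ hm0, mul_comm t, ← hj]
    exact le_mul_of_one_le_left hπ.le (by exact_mod_cast hj1)
  have hhigh : t ≤ π - π / m := by
    rw [le_sub_iff_add_le, ← le_sub_iff_add_le', div_le_iff₀ hm0, sub_mul, mul_comm t, ← hj]
    have : (j : ℝ) + 1 ≤ (m : ℝ) := by exact_mod_cast hj2
    nlinarith
  have hm1 : π / m ≤ π := div_le_self hπ.le (by exact_mod_cast (by omega : 1 ≤ m))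
  have hm2 : 0 ≤ π / m := by positivity
  have c1 : cos t ≤ cos (π / m) := cos_le_cos_of_nonneg_of_le_pi hm2 htπ.le hlow
  have c2 : -cos (π / m) ≤ cos t := by
    rw [← cos_pi_sub]
    exact cos_le_cos_of_nonneg_of_le_pi ht0.le (by linarith) hhigh
  rw [hxc, abs_mul, abs_of_pos (by linarith : (0 : ℝ) < 2 * ρ)]
  exact mul_le_mul_of_nonneg_left (abs_le.mpr ⟨c2, c1⟩) (by linarith)

variable {q r : ℚ} {y : ℝ}

/-- An irrational solution of the multiplicity condition satisfies a quadratic equation with nonzero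
linear coefficient. -/
theorem exists_quad (hq : 2 ≤ q) (hr : 2 ≤ r) (hy : y ^ 2 < 4 * (q : ℝ) * r)
    (hμ : ∃ μ : ℚ, 4 * (q : ℝ) * r - y ^ 2 = μ * ((q + r + y) * (q * r + 1 - y)))
    (hirr : ∀ z : ℚ, y ≠ z) :
    ∃ S T : ℚ, y ^ 2 = S * y - T ∧ S ≠ 0 ∧
      S * ((q + r) * (q * r + 1)) = 4 * q * r * (S - (q - 1) * (r - 1)) - T * ((q - 1) * (r - 1)) := by
  obtain ⟨μ, hμ⟩ := hμ
  set σ : ℚ := (q + r) * (q * r + 1) with hσ
  set δ : ℚ := (q - 1) * (r - 1) with hδ
  have hδ0 : 0 < δ := mul_pos (by linarith) (by linarith)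
  have heq : ((μ : ℝ) - 1) * y ^ 2 - (μ * δ : ℚ) * y + (4 * q * r - μ * σ : ℚ) = 0 := by
    rw [hσ, hδ]
    push_cast
    linear_combination hμ
  by_cases h1 : μ = 1
  · exfalso
    subst h1
    push_cast at heq
    refine hirr ((4 * q * r - σ) / δ) ?_
    have : (δ : ℝ) ≠ 0 := by exact_mod_cast hδ0.ne'
    push_cast
    rw [eq_div_iff this]
    linear_combination -heq
  have h1' : μ - 1 ≠ 0 := sub_ne_zero.mpr h1
  refine ⟨μ * δ / (μ - 1), (4 * q * r - μ * σ) / (μ - 1), ?_, fun hS => ?_, ?_⟩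
  · have : (μ : ℝ) - 1 ≠ 0 := by exact_mod_cast h1'
    push_cast
    field_simp
    push_cast at heq
    linear_combination heq
  · rcases mul_eq_zero.mp ((div_eq_zero_iff.mp hS).resolve_right h1') with h | h
    · subst h
      push_cast at hμ
      linarith
    · exact hδ0.ne' h
  · field_simp
    ring

theorem rational_of_zero (hq : 2 ≤ q) (hr : 2 ≤ r) {ρ : ℝ} (hρ : ρ ^ 2 = q * r) (hρ0 : 0 < ρ) {m : ℕ} (hm : 2 ≤ m)
    (hμ : ∃ μ : ℚ, 4 * (q : ℝ) * r - (2 * ρ * cos (π / m)) ^ 2 =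
      μ * ((q + r + 2 * ρ * cos (π / m)) * (q * r + 1 - 2 * ρ * cos (π / m)))) :
    ∃ z : ℚ, 2 * ρ * cos (π / m) = z := by
  by_contra hno
  push Not at hno
  have hπ := pi_pos
  have hm0 : (0 : ℝ) < m := by exact_mod_cast (by omega : 0 < m)
  have hlt : cos (π / m) < 1 := by
    rw [← cos_zero]
    exact cos_lt_cos_of_nonneg_of_le_pi le_rfl (div_le_self hπ.le (by exact_mod_cast (by omega : 1 ≤ m))) (by positivity)
  have hc0 : 0 ≤ cos (π / m) := by
    refine cos_nonneg_of_neg_pi_div_two_le_of_le (le_trans (by linarith) (div_nonneg hπ.le hm0.le)) ?_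
    exact div_le_div_of_nonneg_left hπ.le two_pos (by exact_mod_cast hm)
  set y := 2 * ρ * cos (π / m) with hy
  have hy2 : y ^ 2 < 4 * (q : ℝ) * r := by
    rw [hy, mul_pow, mul_pow, hρ]
    have hqr : (0 : ℝ) < q * r := by exact_mod_cast mul_pos (by linarith : (0 : ℚ) < q) (by linarith : (0 : ℚ) < r)
    nlinarith [mul_pos hqr (by nlinarith : (0 : ℝ) < 1 - cos (π / m) ^ 2)]
  obtain ⟨S, T, hquad, hS0, hid⟩ := exists_quad hq hr hy2 hμ hno
  have hQ : ρ ^ 2 = ((q * r : ℚ) : ℝ) := by push_cast; exact hρ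
  have hD : dseq ((q * r : ℚ) : ℝ) y m = 0 := by
    have h := dseq_cos hQ (π / m) m
    rw [mul_div_cancel₀ _ hm0.ne', sin_pi, mul_zero, mul_eq_zero, mul_eq_zero] at h
    have hs : 0 < sin (π / m) := sin_pos_of_pos_of_lt_pi (by positivity)
      (div_lt_self hπ (by exact_mod_cast (by omega : 1 < m)))
    rcases h with (h | h) | h
    · exact h
    · exact absurd h hs.ne'
    · exact absurd h hρ0.ne'
  set y' : ℝ := S - y with hy'
  have hquad' : y' ^ 2 = S * y' - T := by rw [hy']; linear_combination hquad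
  obtain ⟨a, b, hab, hab'⟩ := dseq_linear (Q := q * r) hquad hquad' m
  have ha : a = 0 := by
    by_contra ha
    refine hno (-b / a) ?_
    have : (a : ℝ) ≠ 0 := by exact_mod_cast ha
    push_cast
    rw [eq_div_iff this]
    linear_combination hD.symm.trans hab |> Eq.symm
  have hb : (b : ℝ) = 0 := by
    have := hab.symm.trans hD
    rw [ha] at this
    simpa using this
  have hbound := abs_le_of_dseq_eq_zero hQ hρ0 hm (x := y') (by rw [hab', ha, hb]; simp)
  rw [← hy, abs_le] at hbound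
  have hSge : (0 : ℝ) ≤ S := by linarith [hy' ▸ hbound.1]
  have hTgt : -(4 * (q : ℝ) * r) < T := by
    have : (T : ℝ) = y * y' := by rw [hy']; linear_combination hquad
    rw [this]
    nlinarith [hbound.1, hbound.2, mul_nonneg (mul_nonneg (mul_nonneg two_pos.le hρ0.le) hc0) (show (0:ℝ) ≤ y' + y by linarith)]
  have hSpos : 0 < S := lt_of_le_of_ne (by exact_mod_cast hSge) (Ne.symm hS0)
  have hT' : -(4 * q * r) < T := by exact_mod_cast hTgt
  have hσ : 4 * q * r < (q + r) * (q * r + 1) := by nlinarith [mul_pos (by linarith : (0:ℚ) < q) (by linarith : (0:ℚ) < r)]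
  nlinarith [mul_pos hSpos (sub_pos.mpr hσ), mul_pos (mul_pos (by linarith : (0:ℚ) < q - 1) (by linarith : (0:ℚ) < r - 1)) (by linarith : (0:ℚ) < T + 4 * q * r)]

end Cfsg.Agent.BNHecke
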