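import Cfsg.Agent.BNHecke.Rational
import Cfsg.Agent.BNHecke.Quad

/-!
The Feit-Higman theorem for finite (B,N)-pairs of rank two.
-/

set_option autoImplicit false

namespace Cfsg.Agent.BNHecke

open Cfsg Cfsg.Agent.BN Real

theorem hseq_eq {q r ρ θ B : ℝ}
    (hB : B * sin θ = hseq q r ρ (cos θ) 1 - cos θ * hseq q r ρ (cos θ) 0) :
    ∀ j : ℕ, hseq q r ρ (cos θ) j =
      hseq q r ρ (cos θ) 0 * cos (j * θ) + B * sin (j * θ) := by
  intro j
  induction j using Nat.twoStepInduction with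
  | zero => simp
  | one => simp only [Nat.cast_one, one_mul]; linear_combination -hB
  | more k ih1 ih2 =>
    rw [hseq_rec, ih1, ih2]
    have e1 : cos ((k + 2 : ℕ) * θ) = 2 * cos θ * cos ((k + 1 : ℕ) * θ) - cos ((k : ℕ) * θ) := by
      push_cast
      rw [show ((k : ℝ) + 2) * θ = ((k : ℝ) + 1) * θ + θ by ring,
        show (k : ℝ) * θ = ((k : ℝ) + 1) * θ - θ by ring, cos_add, cos_sub]
      ring
    have e2 : sin ((k + 2 : ℕ) * θ) = 2 * cos θ * sin ((k + 1 : ℕ) * θ) - sin ((k : ℕ) * θ) := by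
      push_cast
      rw [show ((k : ℝ) + 2) * θ = ((k : ℝ) + 1) * θ + θ by ring,
        show (k : ℝ) * θ = ((k : ℝ) + 1) * θ - θ by ring, sin_add, sin_sub]
      ring
    rw [e1, e2]
    ring

variable {G : Type*} [Group G] [Finite G] {P : Cfsg.BNPair G} (W : Weyl2 P) {m : ℕ}

namespace Weyl2

/-- The multiplicity condition at the angle `l π / m`. -/
theorem even_condition (hn : W.n = 2 * m) (hm : 2 ≤ m) {l : ℕ} (hl0 : 0 < l) (hl : l < m) {q r : ℚ} {ρ : ℝ}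
    (hq : (q : ℝ) = BNHecke.q P W.s W.hs) (hr : (r : ℝ) = BNHecke.q P W.r W.hr) (hρ : ρ ^ 2 = q * r) (hρ0 : 0 < ρ) :
    ∃ μ : ℚ, 4 * (q : ℝ) * r - (2 * ρ * cos (l * π / m)) ^ 2 =
      μ * ((q + r + 2 * ρ * cos (l * π / m)) * (q * r + 1 - 2 * ρ * cos (l * π / m))) := by
  have hm0 : (0 : ℝ) < m := by exact_mod_cast (by omega : 0 < m)
  set θ := (l : ℝ) * π / m with hθ
  have hθ0 : 0 < θ := by positivity
  have hθπ : θ < π := by
    rw [hθ, div_lt_iff₀ hm0, mul_comm π]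
    exact mul_lt_mul_of_pos_right (by exact_mod_cast hl) pi_pos
  have hsin : 0 < sin θ := sin_pos_of_pos_of_lt_pi hθ0 hθπ
  have hc : cos θ ^ 2 < 1 := by nlinarith [sin_sq_add_cos_sq θ]
  set ε := cos (l * π) with hεd
  have hs : sin (l * π) = 0 := sin_nat_mul_pi l
  have hε : ε ^ 2 = 1 := by
    have := sin_sq_add_cos_sq ((l : ℝ) * π)
    rw [hs] at this
    rw [hεd]; linarith
  have hmθ : (m : ℝ) * θ = l * π := by rw [hθ]; field_simp
  set Q := BNHecke.q P W.s W.hs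
  set R := BNHecke.q P W.r W.hr
  obtain ⟨B, hB⟩ : ∃ B, B * sin θ = hseq Q R ρ (cos θ) 1 - cos θ * hseq Q R ρ (cos θ) 0 :=
    ⟨_, div_mul_cancel₀ _ hsin.ne'⟩
  have hp0 : hseq Q R ρ (cos θ) m = ε * hseq Q R ρ (cos θ) 0 := by
    rw [hseq_eq hB m, hmθ, hs, hεd]
    ring
  have hp1 : hseq Q R ρ (cos θ) (m + 1) = ε * hseq Q R ρ (cos θ) 1 := by
    rw [hseq_eq hB (m + 1), Nat.cast_add, Nat.cast_one, add_mul, one_mul, hmθ, cos_add, sin_add, hs, hεd]
    linear_combination cos ((l : ℝ) * π) * hB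
  rw [hq, hr] at hρ ⊢
  obtain ⟨x, hx⟩ := W.even_rational hn hm (cos θ) ε ρ hc hε hρ hρ0 hp0 hp1
  refine ⟨4 / x, ?_⟩
  obtain ⟨kq, hkq, hQ⟩ := exists_q_eq (P := P) W.hs
  obtain ⟨kr, hkr, hR⟩ := exists_q_eq (P := P) W.hr
  have hQ2 : (2 : ℝ) ≤ Q := by rw [show Q = (kq : ℝ) from hQ]; exact_mod_cast hkq
  have hR2 : (2 : ℝ) ≤ R := by rw [show R = (kr : ℝ) from hR]; exact_mod_cast hkr
  have hqr : 2 * ρ ≤ Q + R := by nlinarith [sq_nonneg (Q - R), sq_nonneg (Q + R + 2 * ρ)]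
  have hc1 : -1 < cos θ := by nlinarith
  have hc2 : cos θ < 1 := by nlinarith
  have hl1 : 0 < Q + R + 2 * ρ * cos θ := by nlinarith
  have hl2 : 0 < Q * R + 1 - 2 * ρ * cos θ := by nlinarith [sq_nonneg (ρ - 1)]
  have hQR : 0 < Q * R := by positivity
  have h1c : 0 < 1 - cos θ ^ 2 := by linarith
  push_cast
  rw [hx, show 4 * Q * R - (2 * ρ * cos θ) ^ 2 = 4 * (Q * R * (1 - cos θ ^ 2)) by
    linear_combination (-4 : ℝ) * cos θ ^ 2 * hρ]
  have hne : (Q + R + 2 * ρ * cos θ) * (Q * R + 1 - 2 * ρ * cos θ) ≠ 0 := (mul_pos hl1 hl2).ne'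
  rw [div_div_eq_mul_div, div_mul_cancel₀ _ hne]

/-- For `n = 2 m + 1 ≥ 5` the number `cos (2 π / n)` would be rational. -/
theorem odd_rational (hn : W.n = 2 * m + 1) (hm : 2 ≤ m) : ∃ z : ℚ, cos (2 * π / W.n) = z := by
  obtain ⟨kq, hkq, hQ⟩ := exists_q_eq (P := P) W.hs
  have hRQ := W.q_eq_of_odd hn
  set Q := BNHecke.q P W.s W.hs with hQd
  have hQ2 : (2 : ℝ) ≤ Q := by rw [hQ]; exact_mod_cast hkq
  have hQ0 : 0 < Q := by linarith
  have hn5 : (5 : ℝ) ≤ W.n := by exact_mod_cast (by omega : 5 ≤ W.n)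
  set φ := π / W.n with hφ
  have hφ0 : 0 < φ := by positivity
  have hφ2 : φ < π / 2 := div_lt_div_of_pos_left pi_pos two_pos (by linarith)
  have hsin : 0 < sin φ := sin_pos_of_pos_of_lt_pi hφ0 (by linarith [pi_pos])
  have hcos : 0 < cos φ := cos_pos_of_mem_Ioo ⟨by linarith [pi_pos], hφ2⟩
  have hθ : 2 * π / W.n = 2 * φ := by rw [hφ]; ring
  rw [hθ]
  set c := cos (2 * φ) with hcd
  have hc2 : c = 2 * cos φ ^ 2 - 1 := cos_two_mul φ
  have hcc : c ^ 2 < 1 := by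
    have h1 := sin_sq_add_cos_sq (2 * φ)
    have h2 : 0 < sin (2 * φ) := sin_pos_of_pos_of_lt_pi (by linarith) (by linarith)
    rw [← hcd] at h1
    nlinarith
  obtain ⟨k, hk⟩ : ∃ k, m = k + 2 := ⟨m - 2, by omega⟩
  have hρ : Q ^ 2 = Q * Q := pow_two Q
  -- the boundary values
  obtain ⟨B, hBφ⟩ : ∃ B, B * sin φ = (Q - 1) * cos φ / Q := ⟨_, div_mul_cancel₀ _ hsin.ne'⟩
  have h00 : hseq Q Q Q c 0 = (Q + 1) / Q := rfl
  have h01 : hseq Q Q Q c 1 = (2 * Q * c + Q - 1) / Q := rfl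
  have hB : B * sin (2 * φ) = hseq Q Q Q c 1 - c * hseq Q Q Q c 0 := by
    have h1 : B * sin φ * Q = (Q - 1) * cos φ := by rw [hBφ]; field_simp
    rw [sin_two_mul, h00, h01, hc2]
    field_simp
    linear_combination 2 * cos φ * h1
  have hang : (W.n : ℝ) * φ = π := by rw [hφ]; field_simp
  have hnm : (W.n : ℝ) = 2 * m + 1 := by exact_mod_cast hn
  have hm_val : hseq Q Q Q c m = -2 * cos φ / Q := by
    rw [hseq_eq hB m, show (m : ℝ) * (2 * φ) = π - φ by rw [← hang, hnm]; ring, cos_pi_sub, sin_pi_sub,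
      hBφ, h00]
    field_simp
    ring
  have hm1_val : hseq Q Q Q c (m + 1) = -2 * cos φ := by
    rw [hseq_eq hB (m + 1), show ((m + 1 : ℕ) : ℝ) * (2 * φ) = φ + π by push_cast; rw [← hang, hnm]; ring,
      cos_add_pi, sin_add_pi, h00, mul_neg B, hBφ]
    field_simp
    ring
  have hlam : 0 < Q + Q + 2 * Q * c := by nlinarith
  set lam := Q + Q + 2 * Q * c with hlamd
  have htop : 1 * (alph Q Q Q c (m - 1) + Q * alph Q Q Q c m) + Q * (Q + 1) * alph Q Q Q c m =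
      lam * alph Q Q Q c m := by
    have h := alph_mid (q := Q) (r := Q) (ρ := Q) (c := c) hQ0 hρ hQ0.ne' (k + 1)
    rw [hk] at hm_val hm1_val ⊢
    rw [show k + 2 - 1 = k + 1 from rfl, hlamd, ← h]
    have he : alph Q Q Q c (k + 1 + 2) = alph Q Q Q c (k + 1 + 1) := by
      rw [alph_succ, alph_succ, show k + 1 + 1 + 1 = k + 2 + 1 from rfl, hm1_val,
        show k + 1 + 1 = k + 2 from rfl, hm_val, pow_succ Q (k + 2)]
      field_simp
    rw [he]
    ring
  obtain ⟨E, hτ, hE⟩ := (W.oddChain hn hm).exists_eigen tau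
    (by show tau (ite _ _ _) = _; rw [if_pos rfl, tau_A]) (fun j h1 h2 => by
      show tau (ite (j = 0) _ _) = _
      change j ≤ m at h2
      rw [if_neg (by omega)]
      exact W.tau_A_Tw_A (by omega) (by omega))
    (alph Q Q Q c) (gev Q Q Q c) (hev Q Q Q c) lam (gev Q Q Q c m) alph_zero
    (by
      show (Q + 1) * (alph Q Q Q c 0 + BNHecke.q P W.r W.hr * alph Q Q Q c 1) = lam * alph Q Q Q c 0
      rw [← hRQ]
      exact alph_eq_zero_case hQ0 hρ hQ0.ne')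
    (fun i => by
      show alph Q Q Q c i + BNHecke.q P W.r W.hr * alph Q Q Q c (i + 1) + Q * (alph Q Q Q c (i + 1) +
        BNHecke.q P W.r W.hr * alph Q Q Q c (i + 2)) = lam * alph Q Q Q c (i + 1)
      rw [← hRQ]
      exact alph_mid hQ0 hρ hQ0.ne' i)
    (by
      show 1 * (alph Q Q Q c (m - 1) + BNHecke.q P W.r W.hr * alph Q Q Q c m) + Q * (Q + 1) * alph Q Q Q c m =
        lam * alph Q Q Q c m
      rw [← hRQ]
      exact htop)
    (show (1 : ℝ) ≠ 0 from one_ne_zero) (if_pos rfl) (hev_zero hQ0 hQ0.ne' hlam.ne')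
    (gev_one hQ0.ne')
    (fun j => by
      show _ = _ - BNHecke.q P W.r W.hr * _
      rw [← hRQ]
      exact hev_succ hρ hlam.ne' j)
    (gev_rec hlam.ne') (by
      show (1 : ℝ) * _ = lam * hev Q Q Q c (m - 1) - Q * gev Q Q Q c (m - 1)
      rw [hk, show k + 2 - 1 = k + 1 from rfl, one_mul]
      exact gev_rec hlam.ne' k)
  have hsum := sum_sq (q := Q) (r := Q) (ρ := Q) (c := c) (k + 1)
  have hF : (Q + 1) * ((∑ j ∈ Finset.range m, alph Q Q Q c j * gev Q Q Q c j) + alph Q Q Q c m * gev Q Q Q c m) =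
      W.n * (Q * Q + 1 - 2 * Q * c) / (2 * Q * (1 - c)) := by
    rw [← Finset.sum_range_succ, hk, sum_alph_gev hQ0.ne' (k + 1)]
    rw [show k + 1 + 1 = k + 2 from rfl, show k + 1 + 2 = k + 2 + 1 from rfl] at hsum
    rw [hk] at hm_val hm1_val hnm
    rw [hm_val, hm1_val, h00, h01] at hsum
    rw [hnm]
    push_cast at hsum ⊢
    generalize (∑ j ∈ Finset.range (k + 2), hseq Q Q Q c (j + 1) ^ 2) = S at hsum ⊢
    have hc1 : 1 - c ≠ 0 := by nlinarith
    have hc1' : 1 + c ≠ 0 := by nlinarith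
    have h4 : cos φ ^ 2 = (1 + c) / 2 := by rw [hc2]; ring
    field_simp at hsum ⊢
    have h4' : 2 * cos φ ^ 2 = 1 + c := by rw [hc2]; ring
    refine mul_left_cancel₀ hc1' ?_
    linear_combination hsum + 2 * (1 - c * Q) * h4'
  have hpos : 0 < (W.n : ℝ) * (Q * Q + 1 - 2 * Q * c) / (2 * Q * (1 - c)) := by
    have : 0 < Q * Q + 1 - 2 * Q * c := by nlinarith [sq_nonneg (Q - 1)]
    have : 0 < 1 - c := by nlinarith
    positivity
  obtain ⟨x, hx⟩ := rational_of_eigen hτ hE (by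
    show 0 < (Q + 1) * _
    exact hF ▸ hpos)
  have hx' : (x : ℝ) = W.n * (Q * Q + 1 - 2 * Q * c) / (2 * Q * (1 - c)) := hx.trans hF
  have hc1 : 1 - c ≠ 0 := by nlinarith
  rw [eq_div_iff (mul_ne_zero (mul_ne_zero two_ne_zero hQ0.ne') hc1)] at hx'
  have hne : 2 * Q * ((W.n : ℝ) - x) ≠ 0 := fun h => by
    have hxn : (x : ℝ) = W.n := by
      rcases mul_eq_zero.1 h with h | h
      · exfalso; linarith
      · linarith
    rw [hxn] at hx'
    have : (W.n : ℝ) * (Q - 1) ^ 2 = 0 := by linear_combination -hx'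
    rcases mul_eq_zero.1 this with h | h
    · linarith
    · exact absurd (pow_eq_zero_iff two_ne_zero |>.1 h) (by linarith)
  refine ⟨((W.n : ℚ) * ((kq : ℚ) * kq + 1) - 2 * (kq : ℚ) * x) / (2 * (kq : ℚ) * ((W.n : ℚ) - x)), ?_⟩
  push_cast
  rw [← hQ, eq_div_iff hne]
  linear_combination hx'

end Weyl2

theorem niven_two_div {n : ℕ} (hn : 2 ≤ n) (h : ∃ z : ℚ, cos (2 * π / n) = z) :
    n = 2 ∨ n = 3 ∨ n = 4 ∨ n = 6 := by
  have hn0 : (0 : ℚ) < n := by exact_mod_cast (by omega : 0 < n)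
  have he : cos (((2 / n : ℚ) : ℝ) * π) = cos (2 * π / n) := by push_cast; ring_nf
  have := niven_angle_div_pi_eq (r := 2 / n) (he ▸ h)
    ⟨by positivity, (div_le_one hn0).2 (by exact_mod_cast hn)⟩
  simp only [Set.mem_insert_iff, Set.mem_singleton_iff] at this
  rcases this with h | h | h | h | h <;> field_simp at h <;> norm_cast at h <;> omega

theorem feit_higman (h2 : P.rank = 2) :
    ((P.B ⊓ P.N).subgroupOf P.N).index ∈ ({4, 6, 8, 12, 16} : Set ℕ) := by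
  obtain ⟨W⟩ := exists_weyl2 h2
  rw [W.index]
  obtain ⟨kq, hkq, hQ⟩ := exists_q_eq (P := P) W.hs
  obtain ⟨kr, hkr, hR⟩ := exists_q_eq (P := P) W.hr
  suffices h : W.n = 2 ∨ W.n = 3 ∨ W.n = 4 ∨ W.n = 6 ∨ W.n = 8 by
    rcases h with h | h | h | h | h <;> simp [h]
  have h2n := W.two_le
  rcases Nat.even_or_odd' W.n with ⟨m, hm | hm⟩
  · by_cases hsmall : m ≤ 4
    · omega
    exfalso
    have hm2 : 2 ≤ m := by omega
    set ρ : ℝ := Real.sqrt ((kq : ℝ) * kr) with hρd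
    have hρ0 : 0 < ρ := by
      have : (0 : ℝ) < (kq : ℝ) * kr := by
        exact_mod_cast Nat.mul_pos (by omega : 0 < kq) (by omega : 0 < kr)
      positivity
    have hρ : ρ ^ 2 = ((kq : ℚ) : ℝ) * ((kr : ℚ) : ℝ) := by push_cast; exact Real.sq_sqrt (by positivity)
    have hq2 : (2 : ℚ) ≤ kq := by exact_mod_cast hkq
    have hr2 : (2 : ℚ) ≤ kr := by exact_mod_cast hkr
    have hcond := fun l (h0 : 0 < l) (h1 : l < m) =>
      W.even_condition hm hm2 h0 h1 (q := (kq : ℚ)) (r := (kr : ℚ)) (ρ := ρ)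
        (by push_cast; exact hQ.symm) (by push_cast; exact hR.symm) hρ hρ0
    have hc1 := hcond 1 one_pos (by omega)
    rw [Nat.cast_one, one_mul] at hc1
    obtain ⟨z, hz⟩ := rational_of_zero hq2 hr2 hρ hρ0 hm2 hc1
    have hcos : ∃ w : ℚ, cos (2 * π / m) = w := by
      refine ⟨z ^ 2 / (2 * kq * kr) - 1, ?_⟩
      rw [show 2 * π / (m : ℝ) = 2 * (π / m) by ring, cos_two_mul]
      push_cast
      rw [← hz, mul_pow, mul_pow, hρ]
      push_cast
      field_simp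
    have hm6 : m = 6 := by rcases niven_two_div hm2 hcos with h | h | h | h <;> omega
    subst hm6
    -- the second angle makes `ρ` rational
    have hc2 := hcond 2 two_pos (by norm_num)
    rw [show ((2 : ℕ) : ℝ) * π / ((6 : ℕ) : ℝ) = π / 3 by push_cast; ring, cos_pi_div_three,
      show 2 * ρ * (1 / 2) = ρ by ring] at hc2
    obtain ⟨v, hv⟩ : ∃ v : ℚ, ρ = v := by
      by_contra hno
      push Not at hno
      have hlt : ρ ^ 2 < 4 * ((kq : ℚ) : ℝ) * ((kr : ℚ) : ℝ) := by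
        have : (0 : ℝ) < ρ ^ 2 := pow_pos hρ0 2
        linarith
      obtain ⟨S, T, hquad, hS, -⟩ := exists_quad hq2 hr2 hlt hc2 hno
      refine hno (((kq : ℚ) * kr + T) / S) ?_
      have hS' : (S : ℝ) ≠ 0 := by exact_mod_cast hS
      push_cast
      rw [eq_div_iff hS']
      push_cast at hρ
      linear_combination hρ - hquad
    rw [show ((6 : ℕ) : ℝ) = 6 by norm_num, cos_pi_div_six] at hz
    have hirr : Irrational (Real.sqrt (3 : ℕ)) := Nat.prime_three.irrational_sqrt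
    refine hirr ⟨z / v, ?_⟩
    have hv0 : (v : ℝ) ≠ 0 := hv ▸ hρ0.ne'
    push_cast
    rw [← hz, hv]
    field_simp
  · by_cases hsmall : m ≤ 1
    · omega
    exfalso
    rcases niven_two_div h2n (W.odd_rational hm (by omega)) with h | h | h | h <;> omega

end Cfsg.Agent.BNHecke
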