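import Cfsg.Agent.BNHecke.Algebra
import Cfsg.Agent.BNHecke.Chain

/-!
Rationality of the multiplicities of the eigen-idempotents in a (B,N)-pair of rank two.
-/

set_option autoImplicit false

namespace Cfsg.Agent.BNHecke

open Cfsg Cfsg.Agent.BN MonoidAlgebra

variable {G : Type*} [Group G] [Finite G] {P : Cfsg.BNPair G} (W : Weyl2 P)

namespace Weyl2

/-- The sum over the parabolic subgroup of the second generator. -/
noncomputable def A : MonoidAlgebra ℝ G := T P 1 + T P W.s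

/-- The sum over the parabolic subgroup of the first generator. -/
noncomputable def B' : MonoidAlgebra ℝ G := T P 1 + T P W.r

/-- The sums over the double cosets of alternating words. -/
noncomputable def Tw (k : ℕ) : MonoidAlgebra ℝ G := T P (wd W.r W.s k)

theorem mem (k : ℕ) : wd W.r W.s k ∈ P.N := wd_mem (P.subset W.hr) (P.subset W.hs) k

theorem mem' (k : ℕ) : wd W.s W.r k ∈ P.N := wd_mem (P.subset W.hs) (P.subset W.hr) k

theorem Tw_even_mul {i : ℕ} (h : 2 * i + 1 ≤ W.n) : W.Tw (2 * i) * T P W.r = W.Tw (2 * i + 1) := by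
  have e : wd W.r W.s (2 * i) * W.r = wd W.r W.s (2 * i + 1) := (wd_succ_even _ _ i).symm
  rw [Tw, Tw, T_mul_gen W.hr (W.mem _) (by rw [e, (W.len _ h).1, (W.len _ (by omega)).1]; omega), e]

theorem Tw_odd_mul {i : ℕ} (h : 2 * i + 2 ≤ W.n) : W.Tw (2 * i + 1) * T P W.s = W.Tw (2 * i + 2) := by
  have e : wd W.r W.s (2 * i + 1) * W.s = wd W.r W.s (2 * i + 2) := (wd_succ_odd _ _ i).symm
  rw [Tw, Tw, T_mul_gen W.hs (W.mem _) (by rw [e, (W.len _ h).1, (W.len _ (by omega)).1]; omega), e]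

theorem gen_mul_Tw {k : ℕ} (h : k + 1 ≤ W.n) : T P W.s * W.Tw k = T P (wd W.s W.r (k + 1)) := by
  rw [Tw, T_gen_mul W.hs (W.mem _) (by
    show _ ≤ wlen P (wd W.s W.r (k + 1)); rw [(W.len _ h).2, (W.len _ (by omega)).1]; omega)]
  rfl

theorem gen_mul_Tw_top {k : ℕ} (h : k + 1 = W.n) : T P W.s * W.Tw k = W.Tw (k + 1) := by
  rw [W.gen_mul_Tw h.le, Tw, h]
  exact T_congr W.braid

theorem A_mul_one : W.A * T P 1 = W.A := by rw [A, add_mul, T_mul_one, T_mul_one]

theorem Tw_zero_mul (x : G) : W.Tw 0 * T P x = T P x := one_mul_T x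

theorem Tw_odd_A {i : ℕ} (h : 2 * i + 2 ≤ W.n) : W.Tw (2 * i + 1) * W.A = W.Tw (2 * i + 1) + W.Tw (2 * i + 2) := by
  rw [A, mul_add, Tw, T_mul_one, ← Tw, W.Tw_odd_mul h]

theorem Tw_even_B {i : ℕ} (h : 2 * i + 1 ≤ W.n) : W.Tw (2 * i) * W.B' = W.Tw (2 * i) + W.Tw (2 * i + 1) := by
  rw [B', mul_add, Tw, T_mul_one, ← Tw, W.Tw_even_mul h]

theorem Tw_odd_B {i : ℕ} (h : 2 * i + 1 ≤ W.n) :
    W.Tw (2 * i + 1) * W.B' = q P W.r W.hr • (W.Tw (2 * i) * W.B') := by
  rw [← W.Tw_even_mul h, mul_assoc, B', gen_mul_sum, mul_smul_comm]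

theorem Tw_even_A {i : ℕ} (h : 2 * i + 2 ≤ W.n) :
    W.Tw (2 * i + 2) * W.A = q P W.s W.hs • (W.Tw (2 * i + 1) * W.A) := by
  rw [← W.Tw_odd_mul h, mul_assoc, A, gen_mul_sum, mul_smul_comm]

theorem A_mul_A : W.A * W.A = (q P W.s W.hs + 1) • W.A := sq_par W.hs

/-- The normalised coefficient at the identity. -/
noncomputable def tau : MonoidAlgebra ℝ G →ₗ[ℝ] ℝ where
  toFun x := (Nat.card P.B : ℝ) * x.coeff 1
  map_add' x y := by rw [MonoidAlgebra.coeff_add, Finsupp.add_apply, mul_add]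
  map_smul' c x := by rw [MonoidAlgebra.coeff_smul_apply, smul_eq_mul, RingHom.id_apply, smul_eq_mul]; ring

theorem tau_T (g : G) [Decidable (g ∈ P.B)] : tau (P := P) (T P g) = if g ∈ P.B then 1 else 0 := by
  show (Nat.card P.B : ℝ) * _ = _
  rw [coeff_T_one]
  split_ifs
  · exact mul_inv_cancel₀ card_B_ne
  · exact mul_zero _

theorem not_mem {x y : G} {k : ℕ} (h : wlen P (wd x y k) = k) (hk : 1 ≤ k) : wd x y k ∉ P.B := fun hB => by
  have := wlen_congr (a := (1 : G)) (b := wd x y k) (by rwa [inv_one, one_mul])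
  rw [wlen_one] at this
  omega

theorem tau_A : tau (P := P) W.A = 1 := by
  classical
  rw [A, map_add, tau_T, tau_T, if_pos (one_mem _), if_neg (not_mem_B W.hs), add_zero]

theorem tau_A_Tw {k : ℕ} (hk : 1 ≤ k) (h : k + 1 ≤ W.n) : tau (P := P) (W.A * W.Tw k) = 0 := by
  classical
  rw [A, add_mul, map_add, W.gen_mul_Tw h, Tw, one_mul_T, tau_T, tau_T,
    if_neg (not_mem (W.len k (by omega)).1 hk), if_neg (not_mem (W.len (k + 1) h).2 (by omega)), add_zero]

theorem tau_A_Tw_A {k : ℕ} (hk : 1 ≤ k) (h : k + 1 ≤ W.n) : tau (P := P) (W.A * W.Tw k * W.A) = 0 := by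
  have : tau (P := P) (W.A * W.Tw k * W.A) = tau (P := P) (W.A * (W.A * W.Tw k)) :=
    congrArg ((Nat.card P.B : ℝ) * ·) (coeff_one_mul_comm _ _)
  rw [this, ← mul_assoc, A_mul_A, smul_mul_assoc, map_smul, W.tau_A_Tw hk h, smul_zero]

variable {m : ℕ}

/-- The chain when the Weyl group has order `4 m`. -/
noncomputable def evenChain (hn : W.n = 2 * m) (hm : 2 ≤ m) : Chain (MonoidAlgebra ℝ G) where
  a := W.A
  b := W.B'
  u j := if j = 0 then W.A else if j < m then W.A * W.Tw (2 * (j - 1) + 1) * W.A else W.A * W.Tw (2 * (j - 1) + 1)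
  v j := if j < m then W.A * W.Tw (2 * j) * W.B' else 0
  m := m
  q := q P W.s W.hs
  r := q P W.r W.hr
  e₁ := q P W.s W.hs + 1
  e₂ := 0
  e₃ := 0
  two_le := hm
  u_zero := if_pos rfl
  u_mul_a := by
    intro j hj
    rcases j with _ | j
    · simp only [if_pos, A_mul_A]
    rw [if_neg (Nat.succ_ne_zero j)]
    simp only [Nat.add_sub_cancel]
    by_cases h : j + 1 < m
    · rw [if_pos h, mul_assoc, A_mul_A, mul_smul_comm]
    · rw [if_neg h, mul_assoc, A, mul_add, Tw, T_mul_one, ← Tw, W.Tw_odd_mul (by omega),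
        ← W.gen_mul_Tw_top (k := 2 * j + 1) (by omega),
        show W.Tw (2 * j + 1) + T P W.s * W.Tw (2 * j + 1) = W.A * W.Tw (2 * j + 1) by
          rw [A, add_mul]; exact congrArg₂ (· + ·) (one_mul_T _).symm rfl,
        ← A, ← mul_assoc, A_mul_A, smul_mul_assoc]
  a_mul_b := by
    rw [if_pos (by omega), mul_assoc, mul_zero, B', mul_add, mul_add, mul_add, Tw_zero_mul, Tw_zero_mul]
  v_zero := by
    rw [if_pos (by omega), if_neg one_ne_zero, if_pos rfl, if_pos (by omega), mul_zero, Nat.sub_self, mul_zero,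
      zero_add, mul_assoc W.A (W.Tw 0), W.Tw_even_B (i := 0) (by omega), mul_add, add_mul]
    rw [show W.Tw 0 = T P 1 from rfl, A_mul_one, A_mul_A, add_comm]
  u_mul_b := by
    intro j hj
    rw [if_neg (Nat.succ_ne_zero j), if_pos hj, if_pos hj, if_pos (by omega), Nat.add_sub_cancel,
      mul_assoc W.A (W.Tw (2 * j + 1)), W.Tw_odd_A (by omega), mul_add, add_mul, mul_assoc W.A (W.Tw (2 * j + 1)),
      W.Tw_odd_B (by omega), mul_smul_comm, ← mul_assoc, add_comm]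
    rfl
  v_mul_a := by
    intro j hj
    rw [if_pos (by omega), if_neg (Nat.succ_ne_zero _), if_neg (Nat.succ_ne_zero _), if_pos (by omega),
      if_pos (by omega), show j + 2 - 1 = j + 1 from rfl, Nat.add_sub_cancel, mul_assoc W.A (W.Tw (2 * (j + 1))),
      W.Tw_even_B (by omega), mul_add, add_mul, mul_assoc W.A (W.Tw (2 * (j + 1))),
      show 2 * (j + 1) = 2 * j + 2 from rfl, W.Tw_even_A (by omega), mul_smul_comm, ← mul_assoc, add_comm]
  v_last := by
    obtain ⟨k, rfl⟩ : ∃ k, m = k + 2 := ⟨m - 2, by omega⟩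
    rw [show k + 2 - 1 = k + 1 from rfl, if_pos (by omega), if_neg (Nat.succ_ne_zero _), if_neg (Nat.succ_ne_zero _),
      if_neg (lt_irrefl _), if_pos (by omega), Nat.add_sub_cancel,
      mul_assoc W.A (W.Tw (2 * (k + 1))), W.Tw_even_B (by omega), mul_add, add_mul,
      mul_assoc W.A (W.Tw (2 * (k + 1))), show 2 * (k + 1) = 2 * k + 2 from rfl, W.Tw_even_A (by omega),
      mul_smul_comm, ← mul_assoc, add_comm]
    congr 1
    have e : W.Tw (2 * k + 2 + 1) * W.A = W.A * W.Tw (2 * k + 2 + 1) := by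
      show W.Tw (2 * (k + 1) + 1) * W.A = W.A * W.Tw (2 * (k + 1) + 1)
      rw [W.Tw_odd_A (by omega), A, add_mul, W.gen_mul_Tw_top (by omega)]
      exact congrArg₂ (· + ·) (one_mul_T _).symm rfl
    rw [mul_assoc, e, ← mul_assoc, A_mul_A, smul_mul_assoc]
  u_top := by
    obtain ⟨k, rfl⟩ : ∃ k, m = k + 1 := ⟨m - 1, by omega⟩
    rw [if_neg (Nat.succ_ne_zero _), if_neg (lt_irrefl _), if_neg (lt_irrefl _), Nat.add_sub_cancel,
      if_pos (by omega), smul_zero, zero_add, mul_assoc, W.Tw_odd_B (by omega), mul_smul_comm, ← mul_assoc]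
  v_top := by rw [if_neg (lt_irrefl _), zero_mul, zero_smul]

/-- The chain when the Weyl group has order `4 m + 2`. -/
noncomputable def oddChain (hn : W.n = 2 * m + 1) (hm : 2 ≤ m) : Chain (MonoidAlgebra ℝ G) where
  a := W.A
  b := W.B'
  u j := if j = 0 then W.A else W.A * W.Tw (2 * (j - 1) + 1) * W.A
  v j := if j < m then W.A * W.Tw (2 * j) * W.B' else W.A * W.Tw (2 * j)
  m := m
  q := q P W.s W.hs
  r := q P W.r W.hr
  e₁ := 1
  e₂ := q P W.s W.hs + 1
  e₃ := q P W.s W.hs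
  two_le := hm
  u_zero := if_pos rfl
  u_mul_a := by
    intro j hj
    rcases j with _ | j
    · simp only [if_pos, A_mul_A]
    rw [if_neg (Nat.succ_ne_zero j), mul_assoc, A_mul_A, mul_smul_comm]
  a_mul_b := by
    rw [if_pos (by omega), mul_assoc, mul_zero, B', mul_add, mul_add, mul_add, Tw_zero_mul, Tw_zero_mul]
  v_zero := by
    rw [if_pos (by omega), if_neg one_ne_zero, if_pos rfl, mul_zero, Nat.sub_self, mul_zero,
      zero_add, mul_assoc W.A (W.Tw 0), W.Tw_even_B (i := 0) (by omega), mul_add, add_mul]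
    rw [show W.Tw 0 = T P 1 from rfl, A_mul_one, A_mul_A, add_comm]
  u_mul_b := by
    intro j hj
    rw [if_neg (Nat.succ_ne_zero j), if_pos hj, if_pos (by omega), Nat.add_sub_cancel,
      mul_assoc W.A (W.Tw (2 * j + 1)), W.Tw_odd_A (by omega), mul_add, add_mul, mul_assoc W.A (W.Tw (2 * j + 1)),
      W.Tw_odd_B (by omega), mul_smul_comm, ← mul_assoc, add_comm]
    rfl
  v_mul_a := by
    intro j hj
    rw [if_pos (by omega), if_neg (Nat.succ_ne_zero _), if_neg (Nat.succ_ne_zero _), show j + 2 - 1 = j + 1 from rfl,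
      Nat.add_sub_cancel, mul_assoc W.A (W.Tw (2 * (j + 1))), W.Tw_even_B (by omega), mul_add, add_mul,
      mul_assoc W.A (W.Tw (2 * (j + 1))),
      show 2 * (j + 1) = 2 * j + 2 from rfl, W.Tw_even_A (by omega), mul_smul_comm, ← mul_assoc, add_comm]
  v_last := by
    obtain ⟨k, rfl⟩ : ∃ k, m = k + 2 := ⟨m - 2, by omega⟩
    rw [show k + 2 - 1 = k + 1 from rfl, if_pos (by omega), if_neg (Nat.succ_ne_zero _), if_neg (Nat.succ_ne_zero _),
      Nat.add_sub_cancel, one_smul,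
      mul_assoc W.A (W.Tw (2 * (k + 1))), W.Tw_even_B (by omega), mul_add, add_mul,
      mul_assoc W.A (W.Tw (2 * (k + 1))), show 2 * (k + 1) = 2 * k + 2 from rfl, W.Tw_even_A (by omega),
      mul_smul_comm, ← mul_assoc, add_comm]
  u_top := by
    obtain ⟨k, rfl⟩ : ∃ k, m = k + 1 := ⟨m - 1, by omega⟩
    rw [if_neg (Nat.succ_ne_zero _), if_neg (lt_irrefl _), Nat.add_sub_cancel, if_pos (by omega),
      mul_assoc W.A (W.Tw (2 * k + 1)), W.Tw_odd_A (by omega), mul_add, add_mul, mul_assoc W.A (W.Tw (2 * k + 1)),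
      W.Tw_odd_B (by omega), mul_smul_comm, ← mul_assoc, add_comm]
    congr 1
    have e : W.Tw (2 * k + 2) * W.B' = W.A * W.Tw (2 * k + 2) := by
      show W.Tw (2 * (k + 1)) * W.B' = W.A * W.Tw (2 * (k + 1))
      rw [W.Tw_even_B (by omega), A, add_mul, W.gen_mul_Tw_top (by omega)]
      exact congrArg₂ (· + ·) (one_mul_T _).symm rfl
    rw [mul_assoc, e, ← mul_assoc, A_mul_A, smul_mul_assoc]
    rfl
  v_top := by
    obtain ⟨k, rfl⟩ : ∃ k, m = k + 1 := ⟨m - 1, by omega⟩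
    rw [if_neg (lt_irrefl _), if_neg (Nat.succ_ne_zero _), Nat.add_sub_cancel, mul_assoc,
      show 2 * (k + 1) = 2 * k + 2 from rfl, W.Tw_even_A (by omega), mul_smul_comm, ← mul_assoc]

theorem q_eq_of_odd (hn : W.n = 2 * m + 1) : q P W.s W.hs = q P W.r W.hr := by
  have h1 : T P W.s * W.Tw (2 * m) = W.Tw (2 * m) * T P W.r := by
    rw [W.gen_mul_Tw_top (by omega), W.Tw_even_mul (by omega)]
  have h2 := congrArg aug h1
  rw [map_mul, map_mul, aug_T_gen W.hs, aug_T_gen W.hr, mul_comm] at h2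
  exact mul_left_cancel₀ (aug_T_pos _).ne' h2

theorem rational_of_eigen {E : MonoidAlgebra ℝ G} {F : ℝ} (hτ : tau (P := P) E = 1) (hE : E * E = F • E)
    (hF : 0 < F) : ∃ x : ℚ, (x : ℝ) = F := by
  have hidem : (F⁻¹ • E) * (F⁻¹ • E) = F⁻¹ • E := by
    rw [smul_mul_smul_comm, hE, smul_smul, mul_assoc, inv_mul_cancel₀ hF.ne', mul_one]
  obtain ⟨k, hk⟩ := exists_rank hidem
  have hc : E.coeff 1 = (Nat.card P.B : ℝ)⁻¹ := eq_inv_of_mul_eq_one_right hτ
  rw [MonoidAlgebra.coeff_smul_apply, smul_eq_mul, hc] at hk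
  have hG : (0 : ℝ) < Nat.card G := Nat.cast_pos.2 Nat.card_pos
  have hB := card_B_ne (P := P)
  have hk0 : (k : ℝ) ≠ 0 := by
    rw [hk]
    exact mul_ne_zero hG.ne' (mul_ne_zero (inv_ne_zero hF.ne') (inv_ne_zero hB))
  refine ⟨(Nat.card G : ℚ) / (k * Nat.card P.B), ?_⟩
  push_cast
  rw [div_eq_iff (mul_ne_zero hk0 hB), hk]
  field_simp

/-- The weight of the eigen-idempotent for even `n` is rational. -/
theorem even_rational (hn : W.n = 2 * m) (hm : 2 ≤ m) (c ε ρ : ℝ) (hc : c ^ 2 < 1) (hε : ε ^ 2 = 1)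
    (hρ : ρ ^ 2 = q P W.s W.hs * q P W.r W.hr) (hρ0 : 0 < ρ)
    (hp0 : hseq (q P W.s W.hs) (q P W.r W.hr) ρ c m = ε * hseq (q P W.s W.hs) (q P W.r W.hr) ρ c 0)
    (hp1 : hseq (q P W.s W.hs) (q P W.r W.hr) ρ c (m + 1) = ε * hseq (q P W.s W.hs) (q P W.r W.hr) ρ c 1) :
    ∃ x : ℚ, (x : ℝ) = (q P W.s W.hs + q P W.r W.hr + 2 * ρ * c) *
      (q P W.s W.hs * q P W.r W.hr + 1 - 2 * ρ * c) / (q P W.s W.hs * q P W.r W.hr * (1 - c ^ 2)) := by
  obtain ⟨kq, hkq, hq⟩ := exists_q_eq (P := P) W.hs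
  obtain ⟨kr, hkr, hr⟩ := exists_q_eq (P := P) W.hr
  obtain ⟨k, hmk⟩ : ∃ k, m = k + 2 := ⟨m - 2, by omega⟩
  set q := q P W.s W.hs with hqd
  set r := BNHecke.q P W.r W.hr with hrd
  have hq2 : (2 : ℝ) ≤ q := by rw [hq]; exact_mod_cast hkq
  have hr2 : (2 : ℝ) ≤ r := by rw [hr]; exact_mod_cast hkr
  have hqr : 2 * ρ ≤ q + r := by nlinarith [sq_nonneg (q - r), sq_nonneg (q + r + 2 * ρ)]
  have hc1 : -1 < c := by nlinarith
  have hc2 : c < 1 := by nlinarith
  have hq0 : (0 : ℝ) < q := by linarith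
  have hlam : 0 < q + r + 2 * ρ * c := by nlinarith
  set lam := q + r + 2 * ρ * c with hlamd
  have htop : (q + 1) * (alph q r ρ c (m - 1) + r * alph q r ρ c m) + 0 * 0 * alph q r ρ c m =
      lam * alph q r ρ c m := by
    have h := alph_mid (q := q) (r := r) (ρ := ρ) (c := c) (by linarith) hρ hρ0.ne' (k + 1)
    rw [hmk] at hp0 hp1 ⊢
    rw [show k + 2 - 1 = k + 1 from rfl]
    rw [hlamd, ← h]
    have hr1 := hseq_rec (q := q) (r := r) (ρ := ρ) (c := c) (k + 1)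
    simp only [alph_succ, show k + 2 + 1 = k + 1 + 2 from rfl] at hp1 ⊢
    rw [show k + 1 + 1 = k + 2 from rfl] at hr1
    rw [hr1] at hp1
    have h1 : hseq q r ρ c (k + 1) = 2 * c * hseq q r ρ c (k + 2) - ε * hseq q r ρ c 1 := by linarith
    rw [hr1, h1, hp0]
    simp only [hseq]
    field_simp
    ring_nf
    linear_combination (2 * ρ ^ 4 * ρ ^ (k * 2) * c * ε * q + ρ ^ 3 * ρ ^ (k * 2) * ε * q * r - ρ ^ 3 * ρ ^ (k * 2) * ε * q) * hρ
  obtain ⟨E, hτ, hE⟩ := (W.evenChain hn hm).exists_eigen tau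
    (by show tau (ite _ _ _) = _; rw [if_pos rfl, tau_A]) (fun j h1 h2 => by
      show tau (ite (j = 0) _ _) = _
      change j ≤ m at h2
      rw [if_neg (by omega)]
      split_ifs with h
      · exact W.tau_A_Tw_A (by omega) (by omega)
      · exact W.tau_A_Tw (by omega) (by omega))
    (alph q r ρ c) (gev q r ρ c) (hev q r ρ c) lam (hseq q r ρ c m * ρ ^ m / (q + 1)) alph_zero
    (alph_eq_zero_case hq0 hρ hρ0.ne') (alph_mid hq0 hρ hρ0.ne') htop
    (show q + 1 ≠ 0 by linarith) (if_pos rfl) (hev_zero hq0 hρ0.ne' hlam.ne')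
    (gev_one hρ0.ne') (hev_succ hρ hlam.ne') (gev_rec hlam.ne') (by
      show (q + 1) * _ = lam * hev q r ρ c (m - 1) - q * gev q r ρ c (m - 1)
      rw [hmk, show k + 2 - 1 = k + 1 from rfl, hev, gev_succ, mul_div_cancel₀ _ hlam.ne',
        mul_div_cancel₀ _ (by linarith)]
      ring)
  have hsum := sum_sq (q := q) (r := r) (ρ := ρ) (c := c) (k + 1)
  have hinv := invariant_value (q := q) (r := r) (ρ := ρ) (c := c) (by linarith) hρ hρ0.ne'
  set I := hseq q r ρ c 0 ^ 2 - 2 * c * hseq q r ρ c 0 * hseq q r ρ c 1 + hseq q r ρ c 1 ^ 2 with hI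
  have hF : (q + 1) * ((∑ j ∈ Finset.range m, alph q r ρ c j * gev q r ρ c j) +
      alph q r ρ c m * (hseq q r ρ c m * ρ ^ m / (q + 1))) =
      m / 2 * (lam * (q * r + 1 - 2 * ρ * c) / (q * r * (1 - c ^ 2))) := by
    subst hmk
    rw [sum_alph_gev hρ0.ne' k, alph_succ, show (k + 1 + 1) = k + 2 from rfl]
    rw [Finset.sum_range_succ _ (k + 1), show k + 1 + 1 = k + 2 from rfl, hp0, hp1] at hsum
    have hh0 : hseq q r ρ c 0 = (q + 1) / q := rfl
    have h1 : 2 * (1 - c ^ 2) * ((∑ j ∈ Finset.range (k + 1), hseq q r ρ c (j + 1) ^ 2) + hseq q r ρ c 0 ^ 2) =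
        (k + 2) * I := by
      push_cast at hsum
      rw [hI] at hsum ⊢
      linear_combination hsum + (2 * c ^ 2 * hseq q r ρ c 0 ^ 2 - hseq q r ρ c 0 ^ 2 - c * hseq q r ρ c 0 * hseq q r ρ c 1) * hε
    have hc' : (1 : ℝ) - c ^ 2 ≠ 0 := by linarith
    push_cast
    rw [hp0, ← hinv]
    generalize hS : (∑ j ∈ Finset.range (k + 1), hseq q r ρ c (j + 1) ^ 2) = S at h1 ⊢
    generalize hseq q r ρ c 0 = h0 at hh0 h1 ⊢
    have step1 : (q + 1) * (1 + q / (q + 1) * S + q / (q + 1) * (ε * h0) / ρ ^ (k + 2) *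
        (ε * h0 * ρ ^ (k + 2) / (q + 1))) = q * (S + h0 ^ 2) := by
      subst hh0
      field_simp
      linear_combination (q + 1) * hε
    have step2 : I * (q ^ 2 * r) / (q * r * (1 - c ^ 2)) = I * q / (1 - c ^ 2) := by field_simp
    rw [step1, step2]
    field_simp at h1 ⊢
    linear_combination h1
  have hpos : 0 < (m : ℝ) / 2 * (lam * (q * r + 1 - 2 * ρ * c) / (q * r * (1 - c ^ 2))) := by
    have : 0 < q * r + 1 - 2 * ρ * c := by nlinarith [sq_nonneg (ρ - 1)]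
    have : 0 < 1 - c ^ 2 := by linarith
    have : (0 : ℝ) < m := by exact_mod_cast (by omega : 0 < m)
    positivity
  obtain ⟨x, hx⟩ := rational_of_eigen hτ (F := _) hE (by
    show 0 < (q + 1) * _
    exact hF ▸ hpos)
  refine ⟨2 * x / m, ?_⟩
  push_cast
  rw [hx]
  show 2 * ((q + 1) * ((∑ j ∈ Finset.range m, alph q r ρ c j * gev q r ρ c j) +
      alph q r ρ c m * (hseq q r ρ c m * ρ ^ m / (q + 1)))) / (m : ℝ) = _
  rw [hF]
  have : (m : ℝ) ≠ 0 := Nat.cast_ne_zero.2 (by omega)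
  field_simp

end Weyl2

end Cfsg.Agent.BNHecke
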