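import Cfsg.Agent.BN.Basic

/-!
The Weyl group of a (B,N)-pair of rank two: alternating words and their lengths.
-/

set_option autoImplicit false

namespace Cfsg.Agent.BNHecke

open Cfsg Cfsg.Agent.BN

/-- The alternating product `x * y * x * ...` with `k` factors. -/
def wd {M : Type*} [Monoid M] : M → M → ℕ → M
  | _, _, 0 => 1
  | x, y, k + 1 => x * wd y x k

theorem map_wd {M N : Type*} [Monoid M] [Monoid N] (f : M →* N) :
    ∀ (k : ℕ) (x y : M), f (wd x y k) = wd (f x) (f y) k := by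
  intro k
  induction k with
  | zero => intro x y; exact map_one f
  | succ k ih => intro x y; simp only [wd, map_mul, ih]

theorem wd_two_mul {M : Type*} [Monoid M] (x y : M) : ∀ i, wd x y (2 * i) = (x * y) ^ i := by
  intro i
  induction i with
  | zero => simp [wd]
  | succ i ih => simp only [Nat.mul_succ, wd, ih, pow_succ', mul_assoc]

theorem wd_two_mul_add_one {M : Type*} [Monoid M] (x y : M) :
    ∀ i, wd x y (2 * i + 1) = (x * y) ^ i * x := by
  intro i
  induction i with
  | zero => simp [wd]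
  | succ i ih =>
    rw [show 2 * (i + 1) + 1 = (2 * i + 1) + 1 + 1 from by ring]
    show x * (y * wd x y (2 * i + 1)) = _
    simp only [ih, pow_succ', mul_assoc]

/-- The last letter. -/
theorem wd_succ_even {M : Type*} [Monoid M] (x y : M) (i : ℕ) :
    wd x y (2 * i + 1) = wd x y (2 * i) * x := by
  rw [wd_two_mul, wd_two_mul_add_one]

theorem wd_succ_odd {M : Type*} [Monoid M] (x y : M) (i : ℕ) :
    wd x y (2 * i + 2) = wd x y (2 * i + 1) * y := by
  rw [show 2 * i + 2 = 2 * (i + 1) from by ring, wd_two_mul, wd_two_mul_add_one, pow_succ, ← mul_assoc]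

section Invol

variable {W : Type*} [Group W]

theorem not_mem_zpowers {σ τ : W} (hσ : σ * σ = 1) (hτ : τ * τ = 1) (hσ1 : σ ≠ 1) (hτ1 : τ ≠ 1) (hne : σ ≠ τ) :
    σ ∉ Subgroup.zpowers (σ * τ) := by
  intro h
  obtain ⟨i, hi⟩ := Subgroup.mem_zpowers_iff.1 h
  have hc : Commute σ τ := by
    have hc : Commute ((σ * τ) ^ i) (σ * τ) := (Commute.refl _).zpow_left i
    rw [hi] at hc
    have h2 : σ * τ * σ = τ := by rw [← hc.eq, ← mul_assoc, hσ, one_mul]
    calc σ * τ = σ * τ * σ * σ := by rw [mul_assoc _ σ σ, hσ, mul_one]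
      _ = τ * σ := by rw [h2]
  have h2 : (σ * τ) ^ (2 : ℤ) = 1 := by
    rw [zpow_two, mul_assoc, ← mul_assoc τ, ← hc.eq, mul_assoc σ, hτ, mul_one, hσ]
  rcases Int.emod_two_eq i with e | e
  · obtain ⟨j, rfl⟩ : ∃ j, i = 2 * j := ⟨i / 2, by omega⟩
    rw [zpow_mul, h2, one_zpow] at hi
    exact hσ1 hi.symm
  · obtain ⟨j, rfl⟩ : ∃ j, i = 2 * j + 1 := ⟨i / 2, by omega⟩
    rw [zpow_add, zpow_mul, h2, one_zpow, one_mul, zpow_one, mul_eq_left] at hi
    exact hτ1 hi

variable {n : ℕ}

theorem wd_ne_one {σ τ : W} (hn : orderOf (σ * τ) = n) (hσ : σ ∉ Subgroup.zpowers (σ * τ)) {k : ℕ}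
    (hk : 0 < k) (hk' : k < 2 * n) : wd σ τ k ≠ 1 := by
  intro h
  rcases Nat.even_or_odd' k with ⟨i, rfl | rfl⟩
  · rw [wd_two_mul] at h
    have := Nat.le_of_dvd (by omega) (hn ▸ orderOf_dvd_of_pow_eq_one h)
    omega
  · rw [wd_two_mul_add_one] at h
    have h' := inv_mem (pow_mem (Subgroup.mem_zpowers (σ * τ)) i)
    exact hσ (by convert h' using 1; exact eq_inv_of_mul_eq_one_right h)

theorem swap_order {σ τ : W} (hσ : σ * σ = 1) (hn : orderOf (σ * τ) = n) : orderOf (τ * σ) = n := by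
  have : τ * σ = σ * (σ * τ) * σ⁻¹ := by
    rw [← mul_assoc, hσ, one_mul, inv_eq_of_mul_eq_one_left hσ]
  rw [this, ← hn]
  exact (SemiconjBy.orderOf_eq σ (by simp [SemiconjBy, mul_assoc])).symm

theorem swap_not_mem {σ τ : W} (hσ : σ * σ = 1) (hτ : τ * τ = 1) (hm : σ ∉ Subgroup.zpowers (σ * τ)) :
    τ ∉ Subgroup.zpowers (τ * σ) := by
  intro h
  refine hm ?_
  have e : τ * σ = (σ * τ)⁻¹ := by
    rw [mul_inv_rev, inv_eq_of_mul_eq_one_left hσ, inv_eq_of_mul_eq_one_left hτ]
  rw [e, Subgroup.zpowers_inv] at h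
  have := mul_mem (Subgroup.mem_zpowers (σ * τ)) h
  rwa [mul_assoc, hτ, mul_one] at this

theorem cancel_left {σ τ : W} (hσ : σ * σ = 1) (k : ℕ) : σ * wd σ τ (k + 1) = wd τ σ k := by
  rw [wd, ← mul_assoc, hσ, one_mul]

/-- Different alternating products of small length are different. -/
theorem wd_ne_swap : ∀ (j : ℕ) {σ τ : W}, σ * σ = 1 → τ * τ = 1 → orderOf (σ * τ) = n →
    σ ∉ Subgroup.zpowers (σ * τ) → ∀ k, 0 < j + k → j + k < 2 * n → wd σ τ k ≠ wd τ σ j := by
  intro j
  induction j with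
  | zero => intro σ τ _ _ hn hm k h0 h1; exact wd_ne_one hn hm (by omega) (by omega)
  | succ j ih =>
    intro σ τ hσ hτ hn hm k _ h1 he
    refine ih (τ := σ) (σ := τ) hτ hσ (swap_order hσ hn) (swap_not_mem hσ hτ hm) (k + 1) (by omega) (by omega) ?_
    rw [wd, he, cancel_left hτ]

theorem wd_ne_same : ∀ (j : ℕ) {σ τ : W}, σ * σ = 1 → τ * τ = 1 → orderOf (σ * τ) = n →
    σ ∉ Subgroup.zpowers (σ * τ) → ∀ k, j < k → k < 2 * n → wd σ τ k ≠ wd σ τ j := by
  intro j
  induction j with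
  | zero => intro σ τ _ _ hn hm k h0 h1; exact wd_ne_one hn hm (by omega) h1
  | succ j ih =>
    intro σ τ hσ hτ hn hm k h0 h1 he
    obtain ⟨k, rfl⟩ : ∃ k', k = k' + 1 := ⟨k - 1, by omega⟩
    refine ih (τ := σ) (σ := τ) hτ hσ (swap_order hσ hn) (swap_not_mem hσ hτ hm) k (by omega) (by omega) ?_
    exact mul_left_cancel (he : σ * wd τ σ k = σ * wd τ σ j)

theorem wd_swap_aux : ∀ (j : ℕ) {σ τ : W}, σ * σ = 1 → τ * τ = 1 → orderOf (σ * τ) = n →
    ∀ k, j + k = 2 * n → wd σ τ k = wd τ σ j := by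
  intro j
  induction j with
  | zero =>
    intro σ τ _ _ hn k h0
    rw [show k = 2 * n by omega, wd_two_mul, ← hn, pow_orderOf_eq_one]
    rfl
  | succ j ih =>
    intro σ τ hσ hτ hn k h0
    have := ih hτ hσ (swap_order hσ hn) (k + 1) (by omega)
    rw [wd] at this ⊢
    rw [← this, ← mul_assoc, hτ, one_mul]

theorem card_eq_two_mul [Finite W] {σ τ : W} (hσ : σ * σ = 1) (hτ : τ * τ = 1)
    (hm : σ ∉ Subgroup.zpowers (σ * τ)) (hgen : Subgroup.closure {σ, τ} = ⊤) :
    Nat.card W = 2 * orderOf (σ * τ) := by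
  set R := Subgroup.zpowers (σ * τ) with hR
  have hconj : ∀ x ∈ R, σ * x * σ ∈ R := fun x hx => by
    obtain ⟨i, rfl⟩ := Subgroup.mem_zpowers_iff.1 hx
    have e : σ * (σ * τ) ^ i * σ⁻¹ = ((σ * τ)⁻¹) ^ i := by
      rw [← conj_zpow]
      congr 1
      rw [mul_inv_rev, inv_eq_of_mul_eq_one_left hσ, inv_eq_of_mul_eq_one_left hτ, ← mul_assoc, hσ, one_mul]
    rw [inv_eq_of_mul_eq_one_left hσ] at e
    rw [e]
    exact zpow_mem (inv_mem (Subgroup.mem_zpowers _)) _
  have hall : ∀ w : W, w ∈ R ∨ w * σ ∈ R := fun w => by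
    have hw : w ∈ Subgroup.closure {σ, τ} := hgen ▸ Subgroup.mem_top w
    have hτR : τ * σ ∈ R := by
      rw [show τ * σ = (σ * τ)⁻¹ by rw [mul_inv_rev, inv_eq_of_mul_eq_one_left hσ, inv_eq_of_mul_eq_one_left hτ]]
      exact inv_mem (Subgroup.mem_zpowers _)
    induction hw using Subgroup.closure_induction_right with
    | one => exact .inl (one_mem _)
    | mul_right z _ u hu ih =>
      rcases hu with rfl | hu
      · rcases ih with h | h
        · exact .inr (by rwa [mul_assoc, hσ, mul_one])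
        · exact .inl h
      · rw [Set.mem_singleton_iff] at hu
        subst hu
        rcases ih with h | h
        · exact .inr (by rw [mul_assoc]; exact mul_mem h hτR)
        · refine .inl ?_
          have := mul_mem h (Subgroup.mem_zpowers (σ * u))
          rwa [← mul_assoc, mul_assoc z σ σ, hσ, mul_one] at this
    | mul_inv_cancel z _ u hu ih =>
      rcases hu with rfl | hu
      · rw [inv_eq_of_mul_eq_one_left hσ]
        rcases ih with h | h
        · exact .inr (by rwa [mul_assoc, hσ, mul_one])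
        · exact .inl h
      · rw [Set.mem_singleton_iff] at hu
        subst hu
        rw [inv_eq_of_mul_eq_one_left hτ]
        rcases ih with h | h
        · exact .inr (by rw [mul_assoc]; exact mul_mem h hτR)
        · refine .inl ?_
          have := mul_mem h (Subgroup.mem_zpowers (σ * u))
          rwa [← mul_assoc, mul_assoc z σ σ, hσ, mul_one] at this
  have hidx : R.index = 2 := by
    rw [Subgroup.index_eq_two_iff]
    refine ⟨σ, fun w => ?_⟩
    rcases hall w with h | h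
    · exact Or.inr ⟨h, fun h' => hm (by have := mul_mem (inv_mem h) h'; rwa [inv_mul_cancel_left] at this)⟩
    · exact Or.inl ⟨h, fun h' => hm (by have := mul_mem (inv_mem h') h; rwa [inv_mul_cancel_left] at this)⟩
  rw [← R.card_mul_index, hidx, hR, Nat.card_zpowers, mul_comm]

end Invol

section BN

variable {G : Type*} [Group G] {P : Cfsg.BNPair G}

theorem wd_mem {r s : G} (hr : r ∈ P.N) (hs : s ∈ P.N) : ∀ k, wd r s k ∈ P.N := by
  intro k
  induction k generalizing r s with
  | zero => exact one_mem _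
  | succ k ih => exact mul_mem hr (ih hs hr)

theorem wlen_wd_le : ∀ (k : ℕ) {r s : G}, r ∈ P.S → s ∈ P.S → wlen P (wd r s k) ≤ k := by
  intro k
  induction k with
  | zero => intro r s _ _; simp [wd, wlen_one]
  | succ k ih =>
    intro r s hr hs
    exact (wlen_mul_le hr (wd_mem (P.subset hs) (P.subset hr) k)).trans (Nat.succ_le_succ (ih hs hr))

/-- A reduced word in two letters is alternating. -/
theorem reduced_eq_wd {r s : G} : ∀ {w : List G}, Reduced P w → (∀ x ∈ w, x = r ∨ x = s) →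
    (w.prod = wd r s w.length ∧ (w = [] ∨ w.head? = some r)) ∨
      (w.prod = wd s r w.length ∧ (w = [] ∨ w.head? = some s)) := by
  intro w
  induction w with
  | nil => intro _ _; exact .inl ⟨rfl, .inl rfl⟩
  | cons a w ih =>
    intro hred hmem
    have hred' := hred.of_cons
    have hne : w = [] ∨ w.head? ≠ some a := by
      rcases w with _ | ⟨b, w⟩
      · exact .inl rfl
      refine .inr fun hb => ?_
      simp only [List.head?_cons, Option.some.injEq] at hb
      subst hb
      have hb := hred.1 b (List.mem_cons_self ..)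
      have hwN := prod_mem_N hred'.of_cons.1
      have h1 := wlen_congr (eqv_sq_mul hb hwN)
      have h2 := hred.2
      have h3 := hred'.of_cons.2
      simp only [List.prod_cons, List.length_cons] at h1 h2 h3
      omega
    have key : ∀ x y : G, a = x → (w.prod = wd y x w.length) → (a :: w).prod = wd x y (a :: w).length := by
      rintro x y rfl h
      rw [List.prod_cons, List.length_cons, wd, h]
    have hsw : w = [] ∨ w.head? = some r ∨ w.head? = some s := by
      rcases w with _ | ⟨b, w⟩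
      · exact .inl rfl
      · rcases hmem b (by simp) with rfl | rfl <;> simp
    have ih' := ih hred' fun x hx => hmem x (List.mem_cons_of_mem _ hx)
    rcases hmem a (List.mem_cons_self ..) with rfl | rfl
    · refine .inl ⟨key _ _ rfl ?_, .inr rfl⟩
      rcases ih' with ⟨h, e⟩ | ⟨h, -⟩
      · rcases e with rfl | e
        · rfl
        · exact absurd e (hne.resolve_left fun e' => by simp [e'] at e)
      · exact h
    · refine .inr ⟨key _ _ rfl ?_, .inr rfl⟩
      rcases ih' with ⟨h, -⟩ | ⟨h, e⟩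
      · exact h
      · rcases e with rfl | e
        · rfl
        · exact absurd e (hne.resolve_left fun e' => by simp [e'] at e)

/-- The data of a pair of rank two. -/
structure Weyl2 (P : Cfsg.BNPair G) where
  r : G
  s : G
  n : ℕ
  hr : r ∈ P.S
  hs : s ∈ P.S
  two_le : 2 ≤ n
  index : ((P.B ⊓ P.N).subgroupOf P.N).index = 2 * n
  len : ∀ k, k ≤ n → wlen P (wd r s k) = k ∧ wlen P (wd s r k) = k
  braid : (wd r s n)⁻¹ * wd s r n ∈ P.B

theorem exists_weyl2 [Finite G] (h2 : P.rank = 2) : Nonempty (Weyl2 P) := by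
  obtain ⟨⟨r, hr⟩, ⟨s, hs⟩, hne', huniv⟩ := Nat.card_eq_two_iff.1 (show Nat.card P.S = 2 from h2)
  have hne : r ≠ s := fun e => hne' (Subtype.ext e)
  have hSeq : ∀ x ∈ P.S, x = r ∨ x = s := fun x hx => by
    have := (Set.ext_iff.1 huniv ⟨x, hx⟩).2 trivial
    simpa using this
  set H := (P.B ⊓ P.N).subgroupOf P.N with hH
  haveI : H.Normal := ⟨fun x hx g => by
    simp only [hH, Subgroup.mem_subgroupOf, Subgroup.mem_inf] at hx ⊢
    exact ⟨by simpa using P.conj_mem g g.2 x ⟨hx.1, hx.2⟩, SetLike.coe_mem _⟩⟩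
  let π : P.N →* P.N ⧸ H := QuotientGroup.mk' H
  have hπ : ∀ a b : P.N, π a = π b ↔ (a : G)⁻¹ * b ∈ P.B := fun a b => by
    rw [QuotientGroup.mk'_apply, QuotientGroup.mk'_apply, QuotientGroup.eq, hH, Subgroup.mem_subgroupOf,
      Subgroup.mem_inf]
    exact ⟨fun h => h.1, fun h => ⟨h, SetLike.coe_mem _⟩⟩
  set R : P.N := ⟨r, P.subset hr⟩
  set S : P.N := ⟨s, P.subset hs⟩
  set σ := π R with hσd
  set τ := π S with hτd
  have hinv : ∀ (x : P.N), (x : G) ∈ P.S → π x * π x = 1 := fun x hx => by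
    rw [← map_mul, ← map_one π, hπ]
    simpa using inv_mem (P.sq_mem x hx)
  have hone : ∀ (x : P.N), (x : G) ∈ P.S → π x ≠ 1 := fun x hx e => by
    rw [← map_one π, hπ] at e
    exact not_mem_B hx (by simpa using inv_mem e)
  have hσ := hinv R hr
  have hτ := hinv S hs
  have hστ : σ ≠ τ := fun e => hne (P.inj r hr s hs ((hπ R S).1 e))
  have hm := not_mem_zpowers hσ hτ (hone R hr) (hone S hs) hστ
  have hgen : Subgroup.closure {σ, τ} = ⊤ := by
    refine eq_top_iff.2 fun w _ => ?_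
    obtain ⟨⟨x, hx⟩, rfl⟩ := QuotientGroup.mk'_surjective H w
    obtain ⟨l, hl, hp⟩ := exists_word_N hx
    have hlist : ∀ l : List G, ∀ hl : ∀ y ∈ l, y ∈ P.S,
        π ⟨l.prod, prod_mem_N hl⟩ ∈ Subgroup.closure {σ, τ} := by
      intro l
      induction l with
      | nil => intro _; rw [show (⟨([] : List G).prod, _⟩ : P.N) = 1 from Subtype.ext rfl, map_one]; exact one_mem _
      | cons y l ih =>
        intro hl
        have hy := hl y (List.mem_cons_self ..)
        have hl' : ∀ z ∈ l, z ∈ P.S := fun z hz => hl z (List.mem_cons_of_mem _ hz)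
        rw [show (⟨(y :: l).prod, prod_mem_N hl⟩ : P.N) = ⟨y, P.subset hy⟩ * ⟨l.prod, prod_mem_N hl'⟩ from
          Subtype.ext (List.prod_cons ..), map_mul]
        refine mul_mem ?_ (ih hl')
        rcases hSeq y hy with rfl | rfl
        · exact Subgroup.subset_closure (Set.mem_insert _ _)
        · exact Subgroup.subset_closure (Set.mem_insert_of_mem _ rfl)
    have h := hlist l hl
    rwa [(hπ _ ⟨x, hx⟩).2 hp] at h
  have hwd : ∀ k, (π ⟨wd r s k, wd_mem (P.subset hr) (P.subset hs) k⟩ = wd σ τ k) ∧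
      (π ⟨wd s r k, wd_mem (P.subset hs) (P.subset hr) k⟩ = wd τ σ k) := fun k => by
    refine ⟨?_, ?_⟩
    · rw [hσd, hτd, ← map_wd π]
      exact congrArg π (Subtype.ext (map_wd P.N.subtype k R S).symm)
    · rw [hσd, hτd, ← map_wd π]
      exact congrArg π (Subtype.ext (map_wd P.N.subtype k S R).symm)
  set n := orderOf (σ * τ) with hn
  have h2n : 2 ≤ n := by
    have h0 : 0 < n := orderOf_pos _
    by_contra hlt
    have h1 : σ * τ = 1 := orderOf_eq_one_iff.1 (by omega)
    exact hστ (by rw [eq_inv_of_mul_eq_one_left h1, inv_eq_of_mul_eq_one_left hτ])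
  have lenle : ∀ {x y : G} (hx : x ∈ P.S) (hy : y ∈ P.S) {u v : P.N ⧸ H},
      u * u = 1 → v * v = 1 → orderOf (u * v) = n → u ∉ Subgroup.zpowers (u * v) →
      (∀ k, π ⟨wd x y k, wd_mem (P.subset hx) (P.subset hy) k⟩ = wd u v k) →
      (∀ k, π ⟨wd y x k, wd_mem (P.subset hy) (P.subset hx) k⟩ = wd v u k) →
      (∀ z ∈ P.S, z = x ∨ z = y) → ∀ k, k ≤ n → wlen P (wd x y k) = k := by
    intro x y hx hy u v hu hv huv hum hxy hyx hS k hk
    refine le_antisymm (wlen_wd_le k hx hy) (Nat.le_of_not_lt fun hlt => ?_)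
    obtain ⟨l, hl, hlen, hp⟩ := exists_min (wd_mem (P.subset hx) (P.subset hy) k)
    have hred : Reduced P l := ⟨hl, by rw [wlen_congr hp, hlen]⟩
    rcases reduced_eq_wd hred (fun z hz => hS z (hl z hz)) with ⟨h, -⟩ | ⟨h, -⟩
    · rw [h, hlen] at hp
      have := (hπ ⟨_, wd_mem (P.subset hx) (P.subset hy) _⟩ ⟨_, wd_mem (P.subset hx) (P.subset hy) k⟩).2 hp
      rw [hxy, hxy] at this
      exact wd_ne_same _ hu hv huv hum k hlt (by omega) this.symm
    · rw [h, hlen] at hp
      have := (hπ ⟨_, wd_mem (P.subset hy) (P.subset hx) _⟩ ⟨_, wd_mem (P.subset hx) (P.subset hy) k⟩).2 hp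
      rw [hxy, hyx] at this
      exact wd_ne_swap _ hu hv huv hum k (by omega) (by omega) this.symm
  refine ⟨⟨r, s, n, hr, hs, h2n, ?_, fun k hk => ⟨?_, ?_⟩, ?_⟩⟩
  · show Nat.card (P.N ⧸ H) = _
    exact card_eq_two_mul hσ hτ hm hgen
  · exact lenle hr hs hσ hτ rfl hm (fun k => (hwd k).1) (fun k => (hwd k).2) hSeq k hk
  · exact lenle hs hr hτ hσ (swap_order hσ rfl) (swap_not_mem hσ hτ hm) (fun k => (hwd k).2) (fun k => (hwd k).1)
      (fun z hz => (hSeq z hz).symm) k hk
  · refine (hπ ⟨_, wd_mem (P.subset hr) (P.subset hs) n⟩ ⟨_, wd_mem (P.subset hs) (P.subset hr) n⟩).1 ?_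
    rw [(hwd n).1, (hwd n).2]
    exact wd_swap_aux n hσ hτ hn.symm n (by omega)

end BN

end Cfsg.Agent.BNHecke
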